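import Cfsg.Agent.Lib.Fusion48.JankoThreeData
import Cfsg.Agent.Lib.Schur.MultiplierJ3

/-!
An element of odd order of the triple cover of J3 commuting with the group of order 32 over the
normal subgroup of order 32 of an involution centralizer is a scalar.

The commutant is computed on matrices: the element preserves three lines over the field with four
elements in the plane of fixed vectors, so it is a scalar there, and a 2-group fixes a nonzero vector
in every invariant subspace.
-/

set_option autoImplicit false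

namespace CfsgLib.Fusion48.JankoThree

open CfsgLib.Sporadic CfsgLib.Sporadic.J3 CfsgLib.Schur CfsgLib.Fusion48.RepTable Cfsg.Spor

local notation "Mat18" => Matrix (Fin 18) (Fin 18) (ZMod 2)

theorem dec_xor (a b : ℕ) : decF2 18 (a ^^^ b) = decF2 18 a + decF2 18 b := by
  ext i j
  simp only [decF2, Matrix.of_apply, Matrix.add_apply, Nat.testBit_xor]
  cases a.testBit _ <;> cases b.testBit _ <;> decide

theorem dec_zero : decF2 18 0 = 0 := by
  ext i j
  simp [decF2]

theorem mat_add_self (A : Mat18) : A + A = 0 := by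
  ext i j
  simp only [Matrix.add_apply, Matrix.zero_apply]
  generalize A i j = x
  revert x
  decide

theorem dec_corner : decF2 18 corner = Matrix.single (0 : Fin 18) (0 : Fin 18) 1 := by
  ext i j
  simp only [decF2, corner, Matrix.of_apply, Matrix.single_apply]
  by_cases h : (0 : Fin 18) = i ∧ (0 : Fin 18) = j
  · obtain ⟨rfl, rfl⟩ := h
    simp
  · rw [if_neg h]
    have hne : i.1 * 18 + j.1 ≠ 0 := fun e => h ⟨Fin.ext (show (0 : ℕ) = i.1 by omega),
      Fin.ext (show (0 : ℕ) = j.1 by omega)⟩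
    obtain ⟨m, hm⟩ := Nat.exists_eq_succ_of_ne_zero hne
    simp [hm, Nat.testBit_succ]

theorem corner_sandwich (A : Mat18) : decF2 18 corner * A * decF2 18 corner = 0 ∨
    decF2 18 corner * A * decF2 18 corner = decF2 18 corner := by
  rw [dec_corner, Matrix.single_mul_mul_single, one_mul, mul_one]
  have h2 : ∀ x : ZMod 2, x = 0 ∨ x = 1 := by decide
  rcases h2 (A 0 0) with h | h <;> rw [h]
  · exact Or.inl (Matrix.single_zero _ _)
  · exact Or.inr rfl

theorem scal_zero : scal 0 = J3.one := by decide +kernel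

theorem scal_inv : ∀ k : Fin 3, mulF2 18 (scal ((3 - k.1) % 3)) (scal k.1) = J3.one := by decide +kernel

theorem canon_xor {a b : ℕ} (ha : canonF2 18 a = true) (hb : canonF2 18 b = true) :
    canonF2 18 (a ^^^ b) = true := by
  rw [canonF2, Nat.blt_eq] at *
  exact Nat.xor_lt_two_pow ha hb

/-- The facts about a line. -/
theorem line_facts {t : ℕ} (ht : t < 3) :
    decF2 18 (lineSum t) = decF2 18 (lineV.getD t 0) * decF2 18 (lineA.getD t 0) +
        decF2 18 (scal 1) * decF2 18 (lineV.getD t 0) * decF2 18 (lineB.getD t 0) ∧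
      decF2 18 (lineSum t) * decF2 18 (lineD.getD t 0) = decF2 18 (lineV.getD t 0) ∧
      decF2 18 (lineV.getD t 0) * decF2 18 corner = decF2 18 (lineV.getD t 0) ∧
      decF2 18 corner * decF2 18 (lineA.getD t 0) = decF2 18 (lineA.getD t 0) ∧
      decF2 18 corner * decF2 18 (lineB.getD t 0) = decF2 18 (lineB.getD t 0) ∧
      decF2 18 (lineV.getD t 0) ≠ 0 ∧
      decF2 18 (lineV.getD t 0) + decF2 18 (scal 1) * decF2 18 (lineV.getD t 0) =
        decF2 18 (scal 2) * decF2 18 (lineV.getD t 0) := by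
  have h := List.all_eq_true.mp line_ok t (List.mem_range.mpr ht)
  simp only [Bool.and_eq_true, beq_iff_eq, Nat.blt_eq] at h
  obtain ⟨⟨⟨⟨⟨⟨⟨h1, h2⟩, h3⟩, h4⟩, h5⟩, h6⟩, hc⟩, h7⟩ := h
  refine ⟨?_, ?_, ?_, ?_, ?_, ?_, ?_⟩
  · rw [← mulF2_dec, ← mulF2_dec, ← mulF2_dec, ← dec_xor, h1]
  · rw [← mulF2_dec, h2]
  · rw [← mulF2_dec, h3]
  · rw [← mulF2_dec, h4]
  · rw [← mulF2_dec, h5]
  · intro e
    have := dec_inj _ _ hc (by decide +kernel) (e.trans dec_zero.symm)
    omega
  · rw [← mulF2_dec, ← mulF2_dec, ← dec_xor, h7]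

theorem finite_mat : Finite Mat18 := inferInstanceAs (Finite (Fin 18 → Fin 18 → ZMod 2))

/-- A 2-group acting on the kernel of a commuting matrix fixes a nonzero matrix there. -/
theorem exists_fixed {R : Type*} [Ring R] [Finite R] (h2 : ∀ a : R, a + a = 0) {H : Type*} [Group H]
    (hH : IsPGroup 2 H) (ρ : H →* R) (e f : R)
    (hc : ∀ k, e * ρ k = ρ k * e) (hef : e * f = 0) (hf : f ≠ 0) :
    ∃ W : R, W ≠ 0 ∧ e * W = 0 ∧ ∀ k, ρ k * W = W := by
  have : Fact (Nat.Prime 2) := ⟨Nat.prime_two⟩
  let X : AddSubgroup R := (AddMonoidHom.mulLeft e).ker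
  have memX : ∀ W, W ∈ X ↔ e * W = 0 := fun W => Iff.rfl
  let act : MulAction H X :=
    { smul := fun k W => ⟨ρ k * W.1, (memX _).mpr (by
        rw [← mul_assoc, hc k, mul_assoc, (memX _).mp W.2, mul_zero])⟩
      one_smul := fun W => Subtype.ext (by
        show ρ 1 * W.1 = W.1
        rw [map_one, one_mul])
      mul_smul := fun k l W => Subtype.ext (by
        show ρ (k * l) * W.1 = ρ k * (ρ l * W.1)
        rw [map_mul, mul_assoc]) }
  have hord : addOrderOf (⟨f, (memX f).mpr hef⟩ : X) = 2 :=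
    addOrderOf_eq_prime (Subtype.ext (by rw [two_nsmul]; exact h2 _))
      (fun h0 => hf (congrArg Subtype.val h0))
  have hd := addOrderOf_dvd_natCard (⟨f, (memX f).mpr hef⟩ : X)
  rw [hord] at hd
  obtain ⟨W, hW, hW0⟩ := hH.exists_fixed_point_of_prime_dvd_card_of_fixed_point X hd (a := (0 : X))
    (fun k => Subtype.ext (show ρ k * (0 : R) = (0 : R) from mul_zero (ρ k)))
  refine ⟨W.1, fun h0 => hW0 (Subtype.ext h0.symm), (memX _).mp W.2, fun k => ?_⟩
  have hk : (k • W : X).1 = W.1 := congrArg Subtype.val (hW k)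
  exact hk

variable {F : Type*} [Field F] {ω : F} (h : FieldFour F ω)
include h

/-- Codes of elements of the triple cover. -/
noncomputable def liftC : Coded (threeJ3 F ω) where
  Rep a g := canonF2 18 a = true ∧ h.emb g.1 = decF2 18 a
  mul := mulF2 18
  one := J3.one
  rep_one := ⟨by decide +kernel, by rw [OneMemClass.coe_one, map_one, J3.dec_one]⟩
  rep_mul := fun ha hb => ⟨PcJankoThree.canon_mulF2 _ _,
    by rw [Subgroup.coe_mul, map_mul, ha.2, hb.2, ← mulF2_dec]⟩
  rep_uniq := fun ha hb => Subtype.ext (h.emb_injective (ha.2.trans hb.2.symm))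
  rep_code := fun ha hb => dec_inj _ _ ha.1 hb.1 (ha.2.symm.trans hb.2)

/-- The group generated by the lifts. -/
noncomputable def liftGroup : Subgroup (threeJ3 F ω) := gen (liftC h) lGens

theorem comm_scal (g : threeJ3 F ω) (k : ℕ) :
    h.emb g.1 * decF2 18 (scal k) = decF2 18 (scal k) * h.emb g.1 := by
  obtain ⟨s, hs, es⟩ := PcJankoThree.exists_scalar h k
  rw [show decF2 18 (scal k) = h.emb s.1 from es.symm, ← map_mul, ← map_mul, ← Subgroup.coe_mul,
    ← Subgroup.coe_mul, Subgroup.mem_center_iff.mp hs g]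

section

variable (hl : ∀ c ∈ lGens, ∃ g : threeJ3 F ω, (liftC h).Rep c g)
include hl

theorem card_liftGroup : Nat.card (liftGroup h) = 32 := by
  have := h.finite_threeJ3
  rw [liftGroup, (tab_spec (liftC h) hl l_table).2.2, l_length]

theorem comm_lineSum {g : threeJ3 F ω} (hg : ∀ k ∈ liftGroup h, g * k = k * g) (t : ℕ) :
    h.emb g.1 * decF2 18 (lineSum t) = decF2 18 (lineSum t) * h.emb g.1 := by
  have := h.finite_threeJ3
  have hterm : ∀ i, h.emb g.1 * decF2 18 (lTab.getD i J3.one) =
      decF2 18 (lTab.getD i J3.one) * h.emb g.1 := by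
    intro i
    rcases getD_cases lTab i J3.one with hi | hi
    · obtain ⟨x, hx, hxr⟩ := (tab_spec (liftC h) hl l_table).1 _ hi
      rw [← hxr.2, ← map_mul, ← map_mul, ← Subgroup.coe_mul, ← Subgroup.coe_mul, hg x hx]
    · rw [hi, J3.dec_one, mul_one, one_mul]
  unfold lineSum
  induction lineTerms.getD t [] with
  | nil => simp [dec_zero]
  | cons p l ih =>
    rw [List.foldr_cons, dec_xor, mulF2_dec, mul_add, add_mul, ih, ← mul_assoc, comm_scal h g,
      mul_assoc, hterm, mul_assoc]

/-- An element commuting with the group preserves each line. -/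
theorem line_scalar {g : threeJ3 F ω} (hg : ∀ k ∈ liftGroup h, g * k = k * g) {t : ℕ} (ht : t < 3) :
    ∃ k < 3, h.emb g.1 * decF2 18 (lineV.getD t 0) =
      decF2 18 (scal k) * decF2 18 (lineV.getD t 0) := by
  obtain ⟨hA, hD, hV, hrA, hrB, hne, hsum⟩ := line_facts ht
  generalize decF2 18 (lineV.getD t 0) = V at *
  generalize decF2 18 (lineA.getD t 0) = a at *
  generalize decF2 18 (lineB.getD t 0) = b at *
  generalize decF2 18 (lineD.getD t 0) = D at *
  set M := h.emb g.1 with hM
  set E := decF2 18 corner with hE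
  set S := decF2 18 (scal 1) with hS
  have h1 : M * V = V * (E * (a * (M * D)) * E) + S * V * (E * (b * (M * D)) * E) := by
    calc M * V = M * (decF2 18 (lineSum t) * D) * E := by rw [hD, mul_assoc, hV]
      _ = decF2 18 (lineSum t) * M * D * E := by rw [← mul_assoc, comm_lineSum h hl hg t]
      _ = (V * a + S * V * b) * M * D * E := by rw [hA]
      _ = _ := by
        conv_lhs => rw [← hrA, ← hrB]
        simp only [add_mul, mul_assoc]
  have hMne : M * V ≠ 0 := by
    intro e
    refine hne ?_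
    have := congrArg (fun X => h.emb (g⁻¹ : threeJ3 F ω).1 * X) e
    simpa only [hM, ← mul_assoc, ← map_mul, ← Subgroup.coe_mul, inv_mul_cancel, OneMemClass.coe_one,
      map_one, one_mul, mul_zero] using this
  rcases corner_sandwich (a * (M * D)) with ha | ha <;> rcases corner_sandwich (b * (M * D)) with hb | hb <;>
    rw [← hE] at ha hb <;> rw [ha, hb] at h1
  · exact absurd (by rw [h1, mul_zero, mul_zero, add_zero]) hMne
  · exact ⟨1, by norm_num, by rw [h1, mul_zero, zero_add, mul_assoc, hV]⟩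
  · exact ⟨0, by norm_num, by rw [h1, mul_zero, add_zero, hV, scal_zero, J3.dec_one, one_mul]⟩
  · exact ⟨2, by norm_num, by rw [h1, hV, mul_assoc, hV, hsum]⟩

/-- A shift of the element by a scalar fixes the two lines pointwise. -/
theorem exists_shift {g : threeJ3 F ω} (ho : Odd (orderOf g)) (hg : ∀ k ∈ liftGroup h, g * k = k * g) :
    ∃ s ∈ Subgroup.center (threeJ3 F ω), Odd (orderOf (s * g)) ∧
      (∀ k ∈ liftGroup h, s * g * k = k * (s * g)) ∧
      h.emb (s * g).1 * decF2 18 (lineV.getD 0 0) = decF2 18 (lineV.getD 0 0) ∧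
      h.emb (s * g).1 * decF2 18 (lineV.getD 1 0) = decF2 18 (lineV.getD 1 0) := by
  have := h.finite_threeJ3
  obtain ⟨k1, hk1, e1⟩ := line_scalar h hl hg (t := 0) (by norm_num)
  obtain ⟨k2, hk2, e2⟩ := line_scalar h hl hg (t := 1) (by norm_num)
  obtain ⟨k3, hk3, e3⟩ := line_scalar h hl hg (t := 2) (by norm_num)
  have hls := line_sum
  simp only [Bool.and_eq_true, beq_iff_eq, List.all_eq_true, List.mem_range, Bool.or_eq_true,
    bne_iff_ne] at hls
  have hk : k1 = k2 := by
    rcases hls.2 k1 hk1 k2 hk2 k3 hk3 with e | e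
    · exact e
    · exfalso
      refine e (dec_inj _ _ (canon_xor (PcJankoThree.canon_mulF2 _ _) (PcJankoThree.canon_mulF2 _ _))
        (PcJankoThree.canon_mulF2 _ _) ?_)
      rw [dec_xor, mulF2_dec, mulF2_dec, mulF2_dec, ← e1, ← e2, ← e3, ← hls.1, dec_xor, mul_add]
  subst hk
  obtain ⟨s, hs, es⟩ := PcJankoThree.exists_scalar h ((3 - k1) % 3)
  have hes : h.emb s.1 = decF2 18 (scal ((3 - k1) % 3)) := es
  have hs3 : s ^ 3 = 1 := by
    have := pow_card_eq_one' (x := (⟨s, hs⟩ : Subgroup.center (threeJ3 F ω)))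
    rw [h.card_center] at this
    exact congrArg Subtype.val this
  have hcs : Commute s g := (Subgroup.mem_center_iff.mp hs g).symm
  have hinv : decF2 18 (scal ((3 - k1) % 3)) * decF2 18 (scal k1) = 1 := by
    rw [← mulF2_dec, scal_inv ⟨k1, hk1⟩, J3.dec_one]
  refine ⟨s, hs, ?_, ?_, ?_, ?_⟩
  · exact ((show Odd 3 by decide).mul ho).of_dvd_nat
      ((hcs.orderOf_mul_dvd_mul_orderOf).trans (mul_dvd_mul_right (orderOf_dvd_of_pow_eq_one hs3) _))
  · intro k hk
    rw [mul_assoc, hg k hk, ← mul_assoc, ← Subgroup.mem_center_iff.mp hs k, mul_assoc]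
  · rw [Subgroup.coe_mul, map_mul, hes, mul_assoc, e1, ← mul_assoc, hinv, one_mul]
  · rw [Subgroup.coe_mul, map_mul, hes, mul_assoc, e2, ← mul_assoc, hinv, one_mul]

omit hl in
theorem fixU_fixed {g : threeJ3 F ω}
    (h0 : h.emb g.1 * decF2 18 (lineV.getD 0 0) = decF2 18 (lineV.getD 0 0))
    (h1 : h.emb g.1 * decF2 18 (lineV.getD 1 0) = decF2 18 (lineV.getD 1 0)) :
    h.emb g.1 * decF2 18 fixU = decF2 18 fixU := by
  have a0 : ∀ X : Mat18, h.emb g.1 * (decF2 18 (lineV.getD 0 0) * X) = decF2 18 (lineV.getD 0 0) * X :=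
    fun X => by rw [← mul_assoc, h0]
  have a1 : ∀ X : Mat18, h.emb g.1 * (decF2 18 (lineV.getD 1 0) * X) = decF2 18 (lineV.getD 1 0) * X :=
    fun X => by rw [← mul_assoc, h1]
  have aS : ∀ X : Mat18, h.emb g.1 * (decF2 18 (scal 1) * X) = decF2 18 (scal 1) * (h.emb g.1 * X) :=
    fun X => by rw [← mul_assoc, comm_scal h g, mul_assoc]
  simp only [fixU, dec_xor, mulF2_dec, mul_add, mul_assoc, aS, a0, a1]

omit h hl in
theorem odd_nsmul {m : ℕ} (hm : Odd m) (A : Mat18) : m • A = A := by
  obtain ⟨q, rfl⟩ := hm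
  rw [succ_nsmul, two_mul, add_nsmul, mat_add_self, zero_add]

/-- An element of odd order commuting with the group and fixing the two lines pointwise is trivial. -/
theorem eq_one_of_fixU {g : threeJ3 F ω} (ho : Odd (orderOf g)) (hg : ∀ k ∈ liftGroup h, g * k = k * g)
    (hU : h.emb g.1 * decF2 18 fixU = decF2 18 fixU) : g = 1 := by
  have := h.finite_threeJ3
  have hMm : h.emb g.1 ^ orderOf g = 1 := by
    rw [← map_pow, ← SubmonoidClass.coe_pow, pow_orderOf_eq_one, OneMemClass.coe_one, map_one]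
  have hcK : ∀ k ∈ liftGroup h, h.emb g.1 * h.emb k.1 = h.emb k.1 * h.emb g.1 := fun k hk => by
    rw [← map_mul, ← map_mul, ← Subgroup.coe_mul, ← Subgroup.coe_mul, hg k hk]
  suffices hone : h.emb g.1 = 1 from
    Subtype.ext (h.emb_injective (by rw [hone, OneMemClass.coe_one, map_one]))
  generalize h.emb g.1 = M at hU hMm hcK
  generalize orderOf g = m at ho hMm
  obtain ⟨e, he⟩ : ∃ e : Mat18, e = ∑ i ∈ Finset.range m, M ^ i := ⟨_, rfl⟩
  have hMe : M * e = e := by
    have hz := mul_geom_sum M m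
    rw [← he, hMm, sub_self, sub_mul, one_mul, sub_eq_zero] at hz
    exact hz
  have hfixed : ∀ W : Mat18, M * W = W → e * W = W := by
    intro W hW
    have : ∀ i, M ^ i * W = W := fun i => by
      induction i with
      | zero => rw [pow_zero, one_mul]
      | succ i ih => rw [pow_succ, mul_assoc, hW, ih]
    rw [he, Finset.sum_mul, Finset.sum_congr rfl (fun i _ => this i), Finset.sum_const,
      Finset.card_range, odd_nsmul ho]
  by_cases hf : e = 1
  · simpa [hf] using hMe
  exfalso
  have hcommK : ∀ k : liftGroup h, e * h.emb k.1.1 = h.emb k.1.1 * e := by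
    intro k
    have hc : ∀ i, M ^ i * h.emb k.1.1 = h.emb k.1.1 * M ^ i := by
      intro i
      induction i with
      | zero => rw [pow_zero, one_mul, mul_one]
      | succ i ih => rw [pow_succ, mul_assoc, hcK k.1 k.2, ← mul_assoc, ih, mul_assoc]
    rw [he, Finset.sum_mul, Finset.mul_sum]
    exact Finset.sum_congr rfl fun i _ => hc i
  have hf1 : (1 : Mat18) + e ≠ 0 := fun h1 => hf <| by
    calc e = 1 + 1 + e := by rw [mat_add_self, zero_add]
      _ = 1 := by rw [add_assoc, h1, add_zero]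
  have := finite_mat
  obtain ⟨W, hW0, heW, hW⟩ := exists_fixed mat_add_self
    (IsPGroup.of_card (p := 2) (n := 5) (by rw [card_liftGroup h hl]; norm_num))
    ((h.emb.comp (threeJ3 F ω).subtype).comp (liftGroup h).subtype) e (1 + e) hcommK
    (by rw [mul_add, mul_one, hfixed e hMe, mat_add_self]) hf1
  refine hW0 ?_
  have hgW : ∀ k, decF2 18 (lGens.getD k J3.one) * W = W := by
    intro k
    rcases getD_cases lGens k J3.one with hk | hk
    · obtain ⟨x, hx⟩ := hl _ hk
      rw [← hx.2]
      exact hW ⟨x, mem_gen (liftC h) hk hx⟩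
    · rw [hk, J3.dec_one, one_mul]
  have hfold : ∀ l : List ℕ, decF2 18 (l.foldr
      (fun k a => mulF2 18 (fixL.getD k 0) (lGens.getD k J3.one ^^^ J3.one) ^^^ a) fixU) * W =
        decF2 18 fixU * W := by
    intro l
    induction l with
    | nil => rfl
    | cons k l ih =>
      rw [List.foldr_cons, dec_xor, mulF2_dec, dec_xor, J3.dec_one, add_mul, ih, mul_assoc, add_mul,
        one_mul, hgW, mat_add_self, mul_zero, zero_add]
  have hsum : decF2 18 fixU * W = W := by
    rw [← hfold (List.range lGens.length), beq_iff_eq.mp fix_ok, J3.dec_one, one_mul]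
  have hMW : M * W = W := by
    conv_lhs => rw [← hsum, ← mul_assoc, hU, hsum]
  rw [← hfixed _ hMW, heW]

/-- An element of odd order commuting with the group is central. -/
theorem odd_commutant {g : threeJ3 F ω} (ho : Odd (orderOf g))
    (hg : ∀ k ∈ liftGroup h, g * k = k * g) : g ∈ Subgroup.center (threeJ3 F ω) := by
  obtain ⟨s, hs, ho', hg', h0, h1⟩ := exists_shift h hl ho hg
  rw [eq_inv_of_mul_eq_one_right (eq_one_of_fixU h hl ho' hg' (fixU_fixed h h0 h1))]
  exact inv_mem hs

end

end CfsgLib.Fusion48.JankoThree
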