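import Cfsg.Agent.Lib.FusionMathieu.Frame

/-!
A criterion for simplicity of the 2-fusion system of a group, allowing odd automorphisms of the
Sylow subgroup that are visible in a normalizer of a centric normal subgroup.
-/

set_option autoImplicit false

namespace CfsgLib.Fusion48

open Cfsg Cfsg.FusionSystem CfsgLib.Fusion CfsgLib.FusionExtend
open scoped Pointwise

variable {G : Type*} [Group G] [Finite G]

/-- The subgroup generated by the 2-elements normalizing `R`. -/
def twoGen (R : Subgroup G) : Subgroup G :=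
  Subgroup.closure {g : G | g ∈ Subgroup.normalizer (R : Set G) ∧ ∃ k : ℕ, orderOf g = 2 ^ k}

theorem map_conj_twoGen (c : G) (R : Subgroup G) :
    (twoGen R).map (MulAut.conj c).toMonoidHom ≤ twoGen (R.map (MulAut.conj c).toMonoidHom) := by
  rw [twoGen, MonoidHom.map_closure, Subgroup.closure_le]
  rintro _ ⟨g, ⟨hg, k, hk⟩, rfl⟩
  refine Subgroup.subset_closure ⟨?_, k, ?_⟩
  · refine Subgroup.mem_normalizer_fintype ?_
    rintro _ ⟨x, hx, rfl⟩
    refine ⟨g * x * g⁻¹, (Subgroup.mem_normalizer_iff.mp hg x).mp hx, ?_⟩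
    simp [mul_assoc]
  · rw [MulEquiv.coe_toMonoidHom, MulEquiv.orderOf_eq, hk]

theorem odd_mem_zpowers_split (g : G) :
    ∃ a b : G, g = a * b ∧ a ∈ Subgroup.zpowers g ∧ b ∈ Subgroup.zpowers g ∧
      (∃ k : ℕ, orderOf a = 2 ^ k) ∧ Odd (orderOf b) := by
  obtain ⟨e, m, hm, he⟩ := Nat.exists_eq_two_pow_mul_odd (orderOf_pos g).ne'
  have hco : IsCoprime ((2 : ℤ) ^ e) (m : ℤ) := by
    have h : Nat.Coprime (2 ^ e) m := Nat.Coprime.pow_left e (Nat.coprime_two_left.mpr hm)
    have := Nat.isCoprime_iff_coprime.mpr h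
    push_cast at this
    exact this
  obtain ⟨u, v, huv⟩ := hco
  refine ⟨g ^ (v * m), g ^ (u * 2 ^ e), ?_, ⟨_, rfl⟩, ⟨_, rfl⟩, ?_, ?_⟩
  · rw [← zpow_add, show v * m + u * 2 ^ e = 1 by linear_combination huv, zpow_one]
  · have h1 : (g ^ (v * m)) ^ (2 ^ e : ℕ) = 1 := by
      rw [← zpow_natCast, ← zpow_mul, show v * m * ((2 ^ e : ℕ) : ℤ) = (orderOf g : ℤ) * v by
        rw [he]; push_cast; ring, zpow_mul, zpow_natCast, pow_orderOf_eq_one, one_zpow]
    obtain ⟨k, -, hk⟩ := (Nat.dvd_prime_pow Nat.prime_two).mp (orderOf_dvd_of_pow_eq_one h1)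
    exact ⟨k, hk⟩
  · have h1 : (g ^ (u * 2 ^ e)) ^ m = 1 := by
      rw [← zpow_natCast, ← zpow_mul, show u * 2 ^ e * (m : ℤ) = (orderOf g : ℤ) * u by
        rw [he]; push_cast; ring, zpow_mul, zpow_natCast, pow_orderOf_eq_one, one_zpow]
    exact hm.of_dvd_nat (orderOf_dvd_of_pow_eq_one h1)

/-- The criterion. -/
theorem isSimple_of_frame (S P : Sylow 2 G) (hP1 : (P : Subgroup G) ≠ ⊥) (z : G)
    (hcen : ∀ w ∈ (P : Subgroup G), (∀ y ∈ (P : Subgroup G), w * y = y * w) → w = 1 ∨ w = z)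
    (hgen : ∀ K : Subgroup G, z ∈ K →
      (∀ g : G, ∀ x ∈ K, g * x * g⁻¹ ∈ (P : Subgroup G) → g * x * g⁻¹ ∈ K) → (P : Subgroup G) ≤ K)
    (hnorm : ∀ h : G, (∀ y ∈ (P : Subgroup G), h * y * h⁻¹ ∈ (P : Subgroup G)) → Odd (orderOf h) →
      h = 1 ∨ ∃ R : Subgroup G, R ≤ (P : Subgroup G) ∧
        (∀ y ∈ (P : Subgroup G), ∀ x ∈ R, y * x * y⁻¹ ∈ R) ∧
        (∀ c : G, (∀ x ∈ R, c * x = x * c) → c ∈ R) ∧ h ∈ twoGen R) :
    (groupFusionSystem (S : Subgroup G)).IsSimple 2 := by
  have : Fact (Nat.Prime 2) := ⟨Nat.prime_two⟩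
  obtain ⟨c, hcS⟩ := MulAction.exists_smul_eq G P S
  have hmap : (S : Subgroup G) = (P : Subgroup G).map (MulAut.conj c).toMonoidHom := by
    rw [← hcS]; rfl
  have hc : ∀ x : G, x ∈ (S : Subgroup G) ↔ c⁻¹ * x * c ∈ (P : Subgroup G) := by
    intro x
    rw [hmap, Subgroup.mem_map_equiv]
    simp [mul_assoc]
  obtain ⟨k, hP⟩ := P.isPGroup'.exists_card_eq
  have hS1 : (S : Subgroup G) ≠ ⊥ := by
    rw [hmap, Ne, Subgroup.map_eq_bot_iff_of_injective _ (MulAut.conj c).injective]
    exact hP1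
  refine FusionSimple.group_isSimple S hS1 (fun T hT => ?_) (fun E hE => ?_)
  · refine or_iff_not_imp_left.mpr fun hTne => le_antisymm hT.1 fun s hs => ?_
    let K : Subgroup G := T.comap (MulAut.conj c).toMonoidHom
    have hKmem : ∀ x, x ∈ K ↔ c * x * c⁻¹ ∈ T := fun x => Iff.rfl
    have hKP : K ≤ (P : Subgroup G) := fun x hx => by
      simpa [mul_assoc] using (hc _).mp (hT.1 ((hKmem x).mp hx))
    have hclosed : ∀ g : G, ∀ x ∈ K, g * x * g⁻¹ ∈ (P : Subgroup G) → g * x * g⁻¹ ∈ K := by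
      intro g x hx hgx
      have hxT := (hKmem x).mp hx
      have hS' : c * (g * x * g⁻¹) * c⁻¹ ∈ (S : Subgroup G) := (hc _).mpr (by simpa [mul_assoc] using hgx)
      have hd : (c * g * c⁻¹) * (c * x * c⁻¹) * (c * g * c⁻¹)⁻¹ = c * (g * x * g⁻¹) * c⁻¹ := by group
      let Z : Subgroup G := Subgroup.zpowers (c * x * c⁻¹)
      have hZS : Z ≤ (S : Subgroup G) := Subgroup.zpowers_le.mpr (hT.1 hxT)
      let φ : Z →* G := (MulAut.conj (c * g * c⁻¹)).toMonoidHom.comp Z.subtype
      have hφ : φ ∈ (groupFusionSystem (S : Subgroup G)).Hom Z := by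
        refine ⟨hZS, fun v => ?_, c * g * c⁻¹, fun v => rfl⟩
        obtain ⟨v, hv⟩ := v
        obtain ⟨n, rfl⟩ := Subgroup.mem_zpowers_iff.mp hv
        show c * g * c⁻¹ * (c * x * c⁻¹) ^ n * (c * g * c⁻¹)⁻¹ ∈ (S : Subgroup G)
        rw [← MulAut.conj_apply, map_zpow, MulAut.conj_apply, hd]
        exact zpow_mem hS' n
      have := sc_apply hT hφ ⟨_, Subgroup.mem_zpowers _⟩ hxT
      rw [hKmem, ← hd]
      exact this
    have hKne : K ≠ ⊥ := by
      intro h
      refine hTne ((Subgroup.eq_bot_iff_forall _).mpr fun t ht => ?_)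
      have : c⁻¹ * t * c ∈ K := (hKmem _).mpr (by simpa [mul_assoc] using ht)
      rw [h, Subgroup.mem_bot] at this
      simpa [mul_assoc] using congrArg (fun v => c * v * c⁻¹) this
    have hz : z ∈ K := FusionMathieu.central_mem (P : Subgroup G) K hP z hcen hKP
      (fun y hy x hx => hclosed y x hx ((P : Subgroup G).mul_mem ((P : Subgroup G).mul_mem hy (hKP hx))
        ((P : Subgroup G).inv_mem hy))) hKne
    have := (hKmem _).mp (hgen K hz hclosed ((hc s).mp hs))
    simpa [mul_assoc] using this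
  · -- normal centric subgroups of `S`
    have hgood : ∀ R : Subgroup G, R ≤ (S : Subgroup G) →
        (S : Subgroup G) ≤ Subgroup.normalizer (R : Set G) →
        (∀ g : G, g ∈ (S : Subgroup G) → (∀ x ∈ R, x * g = g * x) → g ∈ R) →
        (R = (S : Subgroup G) ∨ ∀ g : G, (∀ x ∈ R, x * g = g * x) → g ∈ R) →
        autInducedBy (twoGen R) (S : Subgroup G) ≤ E.autGroup (S : Subgroup G) := by
      intro R hRS hRn _ hRc
      refine hE R ⟨hRS, fun Q _ => ?_⟩ ⟨hRS, fun Q hQ => ?_⟩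
      · rw [show normalizerIn (S : Subgroup G) R = (S : Subgroup G) from inf_eq_left.mpr hRn]
        exact Subgroup.card_le_of_le inf_le_left
      · obtain ⟨-, hQS, g, rfl⟩ := group_isConj_iff.mp hQ
        intro v hv
        obtain ⟨hvS, hvc⟩ := mem_centralizerIn.mp hv
        rcases hRc with hRS' | hRc
        · subst hRS'
          have : (S : Subgroup G).map (MulAut.conj g).toMonoidHom = (S : Subgroup G) :=
            Subgroup.eq_of_le_of_card_ge hQS
              (by rw [Nat.card_congr (Subgroup.equivMapOfInjective _ _ (MulAut.conj g).injective).toEquiv.symm])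
          rw [this]
          exact hvS
        · refine ⟨g⁻¹ * v * g, hRc _ fun x hx => ?_, by simp [mul_assoc]⟩
          have h1 := hvc (g * x * g⁻¹) ⟨x, hx, rfl⟩
          calc x * (g⁻¹ * v * g) = g⁻¹ * ((g * x * g⁻¹) * v) * g := by group
            _ = g⁻¹ * (v * (g * x * g⁻¹)) * g := by rw [h1]
            _ = g⁻¹ * v * g * x := by group
    have hnormS : ∀ g ∈ Subgroup.normalizer ((S : Subgroup G) : Set G), ∀ β : MulAut (S : Subgroup G),
        (∀ x : (S : Subgroup G), ((β x : (S : Subgroup G)) : G) = g * x * g⁻¹) →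
        β ∈ E.autGroup (S : Subgroup G) := by
      have htwo : ∀ g ∈ Subgroup.normalizer ((S : Subgroup G) : Set G), (∃ k : ℕ, orderOf g = 2 ^ k) →
          ∀ β : MulAut (S : Subgroup G), (∀ x : (S : Subgroup G), ((β x : (S : Subgroup G)) : G) = g * x * g⁻¹) →
          β ∈ E.autGroup (S : Subgroup G) := fun g hg hk β hβ =>
        hgood (S : Subgroup G) le_rfl Subgroup.le_normalizer (fun g hg _ => hg) (Or.inl rfl)
          (mem_autInducedBy.mpr ⟨g, Subgroup.subset_closure ⟨hg, hk⟩, hβ⟩)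
      have hoddc : ∀ g ∈ Subgroup.normalizer ((S : Subgroup G) : Set G), Odd (orderOf g) →
          ∀ β : MulAut (S : Subgroup G), (∀ x : (S : Subgroup G), ((β x : (S : Subgroup G)) : G) = g * x * g⁻¹) →
          β ∈ E.autGroup (S : Subgroup G) := by
        intro g hg ho β hβ
        have hh : ∀ y ∈ (P : Subgroup G), (c⁻¹ * g * c) * y * (c⁻¹ * g * c)⁻¹ ∈ (P : Subgroup G) := by
          intro y hy
          have hyS : c * y * c⁻¹ ∈ (S : Subgroup G) := (hc _).mpr (by simpa [mul_assoc] using hy)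
          have := (hc _).mp ((Subgroup.mem_normalizer_iff.mp hg _).mp hyS)
          simpa [mul_assoc] using this
        have ho' : Odd (orderOf (c⁻¹ * g * c)) := by
          rwa [show c⁻¹ * g * c = (MulAut.conj c⁻¹) g by simp, MulEquiv.orderOf_eq]
        rcases hnorm _ hh ho' with h1 | ⟨R, hRP, hRn, hRc, hmem⟩
        · have hg1 : g = 1 := by simpa [mul_assoc] using congrArg (fun v => c * v * c⁻¹) h1
          have : β = 1 := MulEquiv.ext fun x => Subtype.ext (by simp [hβ, hg1])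
          rw [this]
          exact one_mem _
        · let R' := R.map (MulAut.conj c).toMonoidHom
          have hR'S : R' ≤ (S : Subgroup G) := hmap ▸ Subgroup.map_mono hRP
          refine hgood R' hR'S ?_ ?_ (Or.inr ?_) (mem_autInducedBy.mpr ⟨g, ?_, hβ⟩)
          · intro s hs
            refine Subgroup.mem_normalizer_fintype ?_
            rintro _ ⟨x, hx, rfl⟩
            refine ⟨(c⁻¹ * s * c) * x * (c⁻¹ * s * c)⁻¹, hRn _ ((hc s).mp hs) x hx, ?_⟩
            simp [mul_assoc]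
          · intro v _ hv
            refine ⟨c⁻¹ * v * c, hRc _ fun x hx => ?_, by simp [mul_assoc]⟩
            have h1 := hv (c * x * c⁻¹) ⟨x, hx, rfl⟩
            calc c⁻¹ * v * c * x = c⁻¹ * (v * (c * x * c⁻¹)) * c := by group
              _ = c⁻¹ * ((c * x * c⁻¹) * v) * c := by rw [h1]
              _ = x * (c⁻¹ * v * c) := by group
          · intro v hv
            refine ⟨c⁻¹ * v * c, hRc _ fun x hx => ?_, by simp [mul_assoc]⟩
            have h1 := hv (c * x * c⁻¹) ⟨x, hx, rfl⟩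
            calc c⁻¹ * v * c * x = c⁻¹ * (v * (c * x * c⁻¹)) * c := by group
              _ = c⁻¹ * ((c * x * c⁻¹) * v) * c := by rw [h1]
              _ = x * (c⁻¹ * v * c) := by group
          · exact map_conj_twoGen c R ⟨_, hmem, by simp [mul_assoc]⟩
      intro g hg β hβ
      obtain ⟨a, b, hab, ha, hb, hak, hbo⟩ := odd_mem_zpowers_split g
      have haN : a ∈ Subgroup.normalizer ((S : Subgroup G) : Set G) := Subgroup.zpowers_le.mpr hg ha
      have hbN : b ∈ Subgroup.normalizer ((S : Subgroup G) : Set G) := Subgroup.zpowers_le.mpr hg hb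
      have hβeq : β = (S : Subgroup G).normalizerMonoidHom ⟨a, haN⟩ *
          (S : Subgroup G).normalizerMonoidHom ⟨b, hbN⟩ := by
        rw [← map_mul]
        refine MulEquiv.ext fun x => Subtype.ext ?_
        rw [hβ, hab]
        rfl
      rw [hβeq]
      exact mul_mem (htwo a haN hak _ fun x => rfl) (hoddc b hbN hbo _ fun x => rfl)
    intro α hα
    obtain ⟨g, -, hge⟩ := mem_autInducedBy.mp hα
    refine hnormS g (Subgroup.mem_normalizer_fintype fun v hv => ?_) α hge
    rw [← hge ⟨v, hv⟩]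
    exact Subtype.mem _

end CfsgLib.Fusion48
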