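import Cfsg.Agent.Lib.Fusion48.JankoThreeLinear
import Cfsg.Agent.Lib.Fusion48.TwoFrame
import Cfsg.Agent.Lib.Coprime.Commutator
import Cfsg.Agent.Lib.PGroup.Frattini

/-!
The 2-fusion system of J3 is simple.

The Sylow subgroup and its normal subgroup `R` of order 32 are given by tables.  An element normalizing
the Sylow subgroup acts on its Frattini quotient of order 8 as a power of a fixed element of order three,
which lies in the subgroup generated by the 2-elements normalizing `R`.
-/

set_option autoImplicit false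

namespace CfsgLib.Fusion48.JankoThree

open CfsgLib.Sporadic CfsgLib.Sporadic.J3 CfsgLib.Schur CfsgLib.Fusion48.RepTable Cfsg.Spor

/-- The automorphisms of an elementary abelian group of order 8. -/
theorem card_mulAut_dvd {V : Type*} [Group V] [Finite V] (h2 : ∀ v : V, v * v = 1)
    (hc : Nat.card V = 8) : Nat.card (MulAut V) ∣ 168 := by
  have hinv : ∀ v : V, v⁻¹ = v := fun v => inv_eq_of_mul_eq_one_right (h2 v)
  let iC : CommGroup V :=
    { (inferInstance : Group V) with
      mul_comm := fun a b => by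
        calc a * b = (a * b)⁻¹ := (hinv _).symm
          _ = b * a := by rw [mul_inv_rev, hinv, hinv] }
  let iM : Module (ZMod 2) (Additive V) := AddCommGroup.zmodModule (fun x => by
    rw [two_nsmul]; exact h2 (Additive.toMul x))
  have : Fact (Nat.Prime 2) := ⟨Nat.prime_two⟩
  have hfin : Module.Finite (ZMod 2) (Additive V) := Module.Finite.of_finite
  have hr : Module.finrank (ZMod 2) (Additive V) = 3 := by
    have h := Module.natCard_eq_pow_finrank (K := ZMod 2) (V := Additive V)
    rw [show Nat.card (Additive V) = 8 from hc, Nat.card_zmod] at h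
    exact (Nat.pow_right_injective le_rfl (show 2 ^ 3 = 2 ^ _ from h)).symm
  let b := Module.finBasisOfFinrankEq (ZMod 2) (Additive V) hr
  let f : MulAut V →* Matrix (Fin 3) (Fin 3) (ZMod 2) :=
    { toFun := fun α => LinearMap.toMatrix b b ((MonoidHom.toAdditive α.toMonoidHom).toZModLinearMap 2)
      map_one' := by
        rw [← LinearMap.toMatrix_id b]
        rfl
      map_mul' := fun α β => by
        rw [← LinearMap.toMatrix_comp b b b]
        rfl }
  have hf : Function.Injective f := by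
    intro α β e
    refine MulEquiv.ext fun v => ?_
    exact congrArg (fun L : Additive V →ₗ[ZMod 2] Additive V => Additive.toMul (L (Additive.ofMul v)))
      ((LinearMap.toMatrix b b).injective e)
  have hcard : Nat.card (GL (Fin 3) (ZMod 2)) = 168 := by
    rw [Matrix.card_GL_field]
    simp [Fin.prod_univ_three]
  rw [← hcard]
  exact Subgroup.card_dvd_of_injective f.toHomUnits fun α β e => hf (congrArg Units.val e)

section Quotient

variable {G : Type*} [Group G] [Finite G]

/-- The action of a normalizer on the quotient by an invariant subgroup containing all squares has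
image of order dividing `168` and dividing the index. -/
theorem exists_action (P : Subgroup G) (Φ : Subgroup G) (hΦ : Φ ≤ P) (hcard : Nat.card P = Nat.card Φ * 8)
    (hsq : ∀ x ∈ P, x * x ∈ Φ)
    (hinv : ∀ n ∈ Subgroup.normalizer (P : Set G), ∀ x ∈ Φ, n * x * n⁻¹ ∈ Φ) :
    ∃ (K : Subgroup (Subgroup.normalizer (P : Set G))) (_ : K.Normal),
      K.index ∣ 168 ∧ K.index ∣ P.index ∧
        ∀ n, n ∈ K ↔ ∀ x ∈ P, (n : G) * x * (n : G)⁻¹ * x⁻¹ ∈ Φ := by
  have hconj : ∀ x ∈ P, ∀ y ∈ Φ, x * y * x⁻¹ ∈ Φ := fun x hx => hinv x (Subgroup.le_normalizer hx)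
  have hn : (Φ.subgroupOf P).Normal := ⟨fun y hy x => by
    rw [Subgroup.mem_subgroupOf] at hy ⊢
    exact hconj x.1 x.2 _ hy⟩
  have hmk : ∀ a b : P, (a : P ⧸ Φ.subgroupOf P) = (b : P ⧸ Φ.subgroupOf P) ↔ (a : G)⁻¹ * b ∈ Φ := fun a b => by
    rw [QuotientGroup.eq, Subgroup.mem_subgroupOf]; simp
  let α := P.normalizerMonoidHom
  have hmap : ∀ n, (Φ.subgroupOf P).map ((α n) : P →* P) = Φ.subgroupOf P := by
    intro n
    refine Subgroup.eq_of_le_of_card_ge ?_ ?_
    · rintro _ ⟨y, hy, rfl⟩
      rw [Subgroup.mem_subgroupOf]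
      exact hinv n.1 n.2 _ hy
    · exact le_of_eq (Nat.card_congr
        (Subgroup.equivMapOfInjective _ ((α n) : P →* P) (α n).injective).toEquiv)
  let ψ : Subgroup.normalizer (P : Set G) →* MulAut (P ⧸ Φ.subgroupOf P) :=
    { toFun := fun n => QuotientGroup.congr _ _ (α n) (hmap n)
      map_one' := MulEquiv.ext fun q => QuotientGroup.induction_on q fun x => by
        show ((α 1 x : P) : P ⧸ Φ.subgroupOf P) = _
        rw [map_one]; rfl
      map_mul' := fun m n => MulEquiv.ext fun q => QuotientGroup.induction_on q fun x => by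
        show ((α (m * n) x : P) : P ⧸ Φ.subgroupOf P) = ((α m (α n x) : P) : P ⧸ Φ.subgroupOf P)
        rw [map_mul]; rfl }
  have hψ : ∀ n, ψ n = 1 ↔ ∀ x ∈ P, (n : G) * x * (n : G)⁻¹ * x⁻¹ ∈ Φ := by
    intro n
    rw [MulEquiv.ext_iff]
    constructor
    · intro h x hx
      have := (hmk _ _).mp (show ((α n ⟨x, hx⟩ : P) : P ⧸ Φ.subgroupOf P) = ((⟨x, hx⟩ : P) : P ⧸ _) from h ((⟨x, hx⟩ : P) : P ⧸ Φ.subgroupOf P))
      have e : ((α n ⟨x, hx⟩ : P) : G) = n * x * (n : G)⁻¹ := rfl
      have h1 := inv_mem this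
      rw [mul_inv_rev, inv_inv, e] at h1
      rw [show (n : G) * x * (n : G)⁻¹ * x⁻¹ = x * (x⁻¹ * ((n : G) * x * (n : G)⁻¹)) * x⁻¹ by group]
      exact hconj x hx _ h1
    · intro h q
      refine QuotientGroup.induction_on q fun x => ?_
      show ((α n x : P) : P ⧸ Φ.subgroupOf P) = (x : P ⧸ Φ.subgroupOf P)
      rw [hmk]
      have h' := hconj _ (inv_mem x.2) _ (inv_mem (h x.1 x.2))
      have e : ((α n x : P) : G) = n * x * (n : G)⁻¹ := rfl
      simpa [e, mul_assoc] using h'
  refine ⟨ψ.ker, inferInstance, ?_, ?_, fun n => MonoidHom.mem_ker.trans (hψ n)⟩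
  · rw [Subgroup.index_ker ψ]
    refine (Subgroup.card_subgroup_dvd_card _).trans (card_mulAut_dvd ?_ ?_)
    · intro q
      refine QuotientGroup.induction_on q fun x => ?_
      rw [← QuotientGroup.mk_mul, QuotientGroup.eq_one_iff, Subgroup.mem_subgroupOf]
      exact hsq _ x.2
    · have h := (Φ.subgroupOf P).card_eq_card_quotient_mul_card_subgroup
      rw [Nat.card_congr (Subgroup.subgroupOfEquivOfLe hΦ).toEquiv, hcard, Nat.mul_comm _ 8] at h
      exact (Nat.eq_of_mul_eq_mul_right Nat.card_pos h).symm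
  · have hker : P.subgroupOf (Subgroup.normalizer (P : Set G)) ≤ ψ.ker := by
      intro n hn
      rw [MonoidHom.mem_ker, hψ]
      intro x hx
      have hnP : (n : G) ∈ P := hn
      have h1 := hsq _ (mul_mem hnP hx)
      have h2 := hconj _ hx _ (inv_mem (hsq _ hnP))
      have h3 := hsq x hx
      have e : (n : G) * x * (n : G)⁻¹ * x⁻¹ =
          ((n : G) * x * ((n : G) * x)) * (x⁻¹ * ((n : G) * n)⁻¹ * x) * (x * x)⁻¹ := by group
      rw [e]
      exact mul_mem (mul_mem h1 (by simpa using hconj _ (inv_mem hx) _ (inv_mem (hsq _ hnP)))) (inv_mem h3)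
    exact (Subgroup.index_dvd_of_le hker).trans (Subgroup.relIndex_dvd_index_of_le Subgroup.le_normalizer)

end Quotient

variable {F : Type*} [Field F] {ω : F} (h : FieldFour F ω)
variable {G : Type*} [Group G] (e : G ≃* Cfsg.Spor.J3 F ω)

/-- Codes of elements. -/
noncomputable def code : Coded G where
  Rep a x := PcJankoThree.Rep h a (e x)
  mul := PcJankoThree.cmul
  one := PcJankoThree.oneN
  rep_one := by rw [map_one]; exact PcJankoThree.rep_one h
  rep_mul := fun ha hb => by rw [map_mul]; exact PcJankoThree.rep_mul h ha hb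
  rep_uniq := fun ha hb => e.injective (PcJankoThree.rep_uniq h ha hb)
  rep_code := fun ha hb => PcJankoThree.rep_code h ha hb

theorem exists_gen : ∀ c ∈ MultiplierJ3.twoGens, ∃ x, (code h e).Rep c x := by
  intro c hc
  have hm : PcJankoThree.membersOK MultiplierJ3.twoGens MultiplierJ3.twoGensV = true := by
    have := MultiplierJ3.two_ok
    simp only [PcJankoThree.certOK, Bool.and_eq_true] at this
    exact this.1.1.1.1.1.1.1
  obtain ⟨i, hi, rfl⟩ := List.getElem_of_mem hc
  obtain ⟨x, hx⟩ := PcJankoThree.exists_rep h hm i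
  refine ⟨e.symm x, ?_⟩
  show PcJankoThree.Rep h _ (e (e.symm x))
  rwa [e.apply_symm_apply, ← List.getD_eq_getElem _ PcJankoThree.oneN hi]

theorem exists_val (i : ℕ) : ∃ x, (code h e).Rep (vals.getD i PcJankoThree.oneN) x := by
  refine slp_spec (code h e) (fun c hc => ?_) prog_ok i
  rcases List.mem_append.mp hc with hc | hc
  · obtain ⟨a, ha, rfl⟩ := List.mem_map.mp hc
    obtain ⟨g, hg, eg⟩ := h.allGens_mem a ha
    have hcan := List.all_eq_true.mp base_canon a ha
    refine ⟨e.symm (QuotientGroup.mk ⟨g, hg⟩), ?_⟩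
    show PcJankoThree.Rep h _ (e (e.symm _))
    rw [e.apply_symm_apply]
    exact PcJankoThree.rep_norm h hcan (g := ⟨g, hg⟩) eg (PcJankoThree.norm_norm h hcan)
  · exact exists_gen h e c hc

variable [Finite G]

/-- The Sylow subgroup. -/
noncomputable def pSub : Subgroup G := gen (code h e) MultiplierJ3.twoGens

theorem p_spec : (∀ c ∈ pTab, ∃ x, x ∈ pSub h e ∧ (code h e).Rep c x) ∧
    (∀ x, x ∈ pSub h e ↔ ∃ c ∈ pTab, (code h e).Rep c x) ∧ Nat.card (pSub h e) = 128 := by
  obtain ⟨h1, h2, h3⟩ := tab_spec (code h e) (exists_gen h e) p_table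
  exact ⟨h1, h2, h3.trans p_length⟩

theorem exists_rGen : ∀ c ∈ rGens, ∃ x, (code h e).Rep c x := fun c hc =>
  let ⟨x, _, hx⟩ := (p_spec h e).1 c (List.contains_iff_mem.mp (List.all_eq_true.mp r_le c hc))
  ⟨x, hx⟩

theorem exists_fGen : ∀ c ∈ fGens, ∃ x ∈ pSub h e, (code h e).Rep c (x * x) := by
  intro c hc
  rw [beq_iff_eq.mp f_squares] at hc
  obtain ⟨i, -, rfl⟩ := List.mem_map.mp hc
  rcases getD_cases pTab i PcJankoThree.oneN with hi | hi
  · obtain ⟨x, hx, hxr⟩ := (p_spec h e).1 _ hi
    exact ⟨x, hx, (code h e).rep_mul hxr hxr⟩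
  · exact ⟨1, one_mem _, by rw [hi]; exact (code h e).rep_mul (code h e).rep_one (code h e).rep_one⟩

theorem exists_fGen' : ∀ c ∈ fGens, ∃ x, (code h e).Rep c x := fun c hc =>
  let ⟨x, _, hx⟩ := exists_fGen h e c hc
  ⟨x * x, hx⟩

/-- The Frattini subgroup of the Sylow subgroup. -/
noncomputable def fSub : Subgroup G := gen (code h e) fGens

/-- The normal subgroup of order 32. -/
noncomputable def rSub : Subgroup G := gen (code h e) rGens

theorem rSub_le : rSub h e ≤ pSub h e := by
  rw [rSub, gen, Subgroup.closure_le]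
  rintro x ⟨c, hc, hx⟩
  exact ((p_spec h e).2.1 x).mpr ⟨c, List.contains_iff_mem.mp (List.all_eq_true.mp r_le c hc), hx⟩

theorem p_normalizes_r : pSub h e ≤ Subgroup.normalizer (rSub h e : Set G) := by
  rw [pSub, gen, Subgroup.closure_le]
  rintro x ⟨a, ha, hx⟩
  exact conj_mem_normalizer (code h e) (exists_rGen h e) r_table hx (List.all_eq_true.mp r_normal a ha)

theorem sq_mem_fSub {x : G} (hx : x ∈ pSub h e) : x * x ∈ fSub h e := by
  obtain ⟨c, hc, hxr⟩ := ((p_spec h e).2.1 x).mp hx
  exact ((tab_spec (code h e) (exists_fGen' h e) f_table).2.1 _).mpr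
    ⟨_, List.contains_iff_mem.mp (List.all_eq_true.mp p_squares c hc), (code h e).rep_mul hxr hxr⟩

theorem conj_mem_fSub {n : G} (hn : n ∈ Subgroup.normalizer (pSub h e : Set G)) {x : G}
    (hx : x ∈ fSub h e) : n * x * n⁻¹ ∈ fSub h e := by
  have hle : (fSub h e).map (MulAut.conj n).toMonoidHom ≤ fSub h e := by
    rw [fSub, gen, MonoidHom.map_closure, Subgroup.closure_le]
    rintro _ ⟨y, ⟨c, hc, hy⟩, rfl⟩
    obtain ⟨q, hq, hqr⟩ := exists_fGen h e c hc
    obtain rfl := (code h e).rep_uniq hy hqr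
    show n * (q * q) * n⁻¹ ∈ fSub h e
    rw [show n * (q * q) * n⁻¹ = (n * q * n⁻¹) * (n * q * n⁻¹) by group]
    exact sq_mem_fSub h e ((Subgroup.mem_normalizer_iff.mp hn q).mp hq)
  exact hle ⟨x, hx, rfl⟩

theorem fSub_le : fSub h e ≤ pSub h e := by
  rw [fSub, gen, Subgroup.closure_le]
  rintro x ⟨c, hc, hx⟩
  obtain ⟨q, hq, hqr⟩ := exists_fGen h e c hc
  obtain rfl := (code h e).rep_uniq hx hqr
  exact mul_mem hq hq

theorem fSub_le_frattini : fSub h e ≤ (frattini (pSub h e)).map (pSub h e).subtype := by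
  have : Fact (Nat.Prime 2) := ⟨Nat.prime_two⟩
  have hp : IsPGroup 2 (pSub h e) := IsPGroup.of_card (n := 7) (by rw [(p_spec h e).2.2]; norm_num)
  rw [fSub, gen, Subgroup.closure_le]
  rintro x ⟨c, hc, hx⟩
  obtain ⟨q, hq, hqr⟩ := exists_fGen h e c hc
  obtain rfl := (code h e).rep_uniq hx hqr
  refine ⟨(⟨q, hq⟩ : pSub h e) ^ 2, CfsgLib.PGroup.pow_mem_frattini hp _, ?_⟩
  simp [sq]

/-- Elements of odd order centralizing `R` are trivial. -/
theorem eq_one_of_odd {b : G} (ho : Odd (orderOf b)) (hb : ∀ x ∈ rSub h e, b * x = x * b) : b = 1 := by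
  have := h.finite_threeJ3
  obtain ⟨hnorm, hlen⟩ := Bool.and_eq_true_iff.mp l_norm
  simp only [List.all_eq_true, List.mem_range, Bool.and_eq_true, beq_iff_eq] at hnorm hlen
  have key : ∀ c ∈ lGens, ∃ l : threeJ3 F ω, (liftC h).Rep c l ∧
      e.symm (QuotientGroup.mk l) ∈ rSub h e := by
    intro c hc
    obtain ⟨i, hi, rfl⟩ := List.getElem_of_mem hc
    have hi' : i < rGens.length := hlen ▸ hi
    obtain ⟨⟨hval, hcan⟩, hn⟩ := hnorm i hi'
    rw [List.getD_eq_getElem _ J3.one hi] at hval hcan hn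
    rw [List.getD_eq_getElem _ J3.one hi'] at hval hn
    change _ = mulF2 18 (scalars.getD (lScal.getD i 0) one) _ at hval
    obtain ⟨x, hx⟩ := exists_rGen h e _ (List.getElem_mem hi')
    obtain ⟨-, -, g, -, hg⟩ := hx
    obtain ⟨s, hs, es⟩ := PcJankoThree.exists_scalar h (lScal.getD i 0)
    have hl : h.emb (s * g).1 = decF2 18 lGens[i] := by
      rw [Subgroup.coe_mul, map_mul, es, hg, ← mulF2_dec]
      exact congrArg _ hval.symm
    refine ⟨s * g, ⟨hcan, hl⟩, mem_gen (code h e) (c := rGens[i]) (List.getElem_mem hi') ?_⟩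
    show PcJankoThree.Rep h _ (e (e.symm _))
    rw [e.apply_symm_apply, ← hn]
    exact PcJankoThree.rep_norm h hcan hl (PcJankoThree.norm_norm h hcan)
  have hl : ∀ c ∈ lGens, ∃ l : threeJ3 F ω, (liftC h).Rep c l := fun c hc =>
    let ⟨l, hl, _⟩ := key c hc
    ⟨l, hl⟩
  obtain ⟨g, hg⟩ := QuotientGroup.mk_surjective (s := Subgroup.center (threeJ3 F ω)) (e b)
  have h3 : ∀ c ∈ Subgroup.center (threeJ3 F ω), c ^ 3 = 1 := fun c hc => by
    have := pow_card_eq_one' (x := (⟨c, hc⟩ : Subgroup.center (threeJ3 F ω)))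
    rw [h.card_center] at this
    exact congrArg Subtype.val this
  have hgo : Odd (orderOf g) := by
    have hm : g ^ orderOf b ∈ Subgroup.center (threeJ3 F ω) := by
      rw [← QuotientGroup.eq_one_iff, QuotientGroup.mk_pow, hg, ← map_pow, pow_orderOf_eq_one, map_one]
    have h1 : g ^ (orderOf b * 3) = 1 := by rw [pow_mul]; exact h3 _ hm
    exact (ho.mul (by decide)).of_dvd_nat (orderOf_dvd_of_pow_eq_one h1)
  have hcomm : ∀ k ∈ liftGroup h, g * k = k * g := by
    intro k hk
    have hle : liftGroup h ≤ Subgroup.centralizer {g} := by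
      rw [liftGroup, gen, Subgroup.closure_le]
      rintro l ⟨c, hc, hlr⟩
      obtain ⟨l', hlr', hlR⟩ := key c hc
      obtain rfl := (liftC h).rep_uniq hlr hlr'
      rw [SetLike.mem_coe, Subgroup.mem_centralizer_singleton_iff]
      have hz : g * l * g⁻¹ * l⁻¹ ∈ Subgroup.center (threeJ3 F ω) := by
        rw [← QuotientGroup.eq_one_iff]
        have := congrArg e (hb _ hlR)
        rw [map_mul, map_mul, e.apply_symm_apply, ← hg] at this
        simp only [QuotientGroup.mk_mul, QuotientGroup.mk_inv]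
        rw [this, mul_inv_cancel_right, mul_inv_cancel]
      have h32 : l ^ 32 = 1 := by
        have := pow_card_eq_one' (x := (⟨l, mem_gen (liftC h) hc hlr⟩ : liftGroup h))
        rw [card_liftGroup h hl] at this
        exact congrArg Subtype.val this
      have hcm : Commute (g * l * g⁻¹ * l⁻¹) l := (Subgroup.mem_center_iff.mp hz l).symm
      have hc32 : (g * l * g⁻¹ * l⁻¹) ^ 32 = 1 := by
        have h' := hcm.mul_pow 32
        rw [inv_mul_cancel_right, h32, mul_one, conj_pow, h32, mul_one, mul_inv_cancel] at h'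
        exact h'.symm
      have hc1 : g * l * g⁻¹ * l⁻¹ = 1 := by
        have := pow_gcd_eq_one.mpr ⟨h3 _ hz, hc32⟩
        simpa using this
      rw [mul_inv_eq_one, mul_inv_eq_iff_eq_mul] at hc1
      exact hc1.symm
    exact (Subgroup.mem_centralizer_singleton_iff.mp (hle hk)).symm
  have hz := odd_commutant h hl hgo hcomm
  refine e.injective ?_
  rw [map_one, ← hg]
  exact (QuotientGroup.eq_one_iff g).mpr hz

/-- The Sylow subgroup is one. -/
theorem exists_sylow : ∃ P : Sylow 2 G, (P : Subgroup G) = pSub h e := by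
  have : Fact (Nat.Prime 2) := ⟨Nat.prime_two⟩
  have hp : IsPGroup 2 (pSub h e) := IsPGroup.of_card (n := 7) (by rw [(p_spec h e).2.2]; norm_num)
  obtain ⟨P, hP⟩ := hp.exists_le_sylow
  obtain ⟨k, hk⟩ := P.isPGroup'.exists_card_eq
  have hd : 2 ^ k ∣ 2 ^ 7 * 392445 := by
    rw [← hk, show 2 ^ 7 * 392445 = Nat.card G by rw [Nat.card_congr e.toEquiv, h.card_J3]; norm_num]
    exact Subgroup.card_subgroup_dvd_card _
  have hd' : 2 ^ k ≤ 2 ^ 7 := Nat.le_of_dvd (by norm_num)
    ((Nat.Coprime.pow_left k (by decide +kernel)).dvd_of_dvd_mul_right hd)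
  exact ⟨P, (Subgroup.eq_of_le_of_card_ge hP (by rw [(p_spec h e).2.2, hk]; simpa using hd')).symm⟩

/-- The element of order three is generated by 2-elements normalizing `R`. -/
theorem three_spec {g : G} (hg : (code h e).Rep hThree g) :
    g ∈ Subgroup.normalizer (pSub h e : Set G) ∧ g ∈ twoGen (rSub h e) ∧
      ∃ x ∈ pSub h e, g * x * g⁻¹ * x⁻¹ ∉ fSub h e := by
  have ht := three_val
  simp only [Bool.and_eq_true, beq_iff_eq] at ht
  obtain ⟨w, hw⟩ : ∃ w, (code h e).Rep wTwo w := ht.1.2 ▸ exists_val h e _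
  have h32 := three_two
  simp only [Bool.and_eq_true, beq_iff_eq] at h32
  obtain ⟨⟨hww, h333⟩, hwh⟩ := h32
  have hw2 : w * w = 1 := (code h e).rep_uniq ((code h e).rep_mul hw hw) (show (code h e).Rep (PcJankoThree.cmul wTwo wTwo) 1 by rw [hww]; exact (code h e).rep_one)
  have hg3 : g * (g * g) = 1 :=
    (code h e).rep_uniq ((code h e).rep_mul hg ((code h e).rep_mul hg hg)) (show (code h e).Rep (PcJankoThree.cmul hThree (PcJankoThree.cmul hThree hThree)) 1 by rw [h333]; exact (code h e).rep_one)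
  have hconj : w * g * w⁻¹ = g * g := conj_eq (code h e) hw hg ((code h e).rep_mul hg hg) hwh
  have hgR := conj_mem_normalizer (code h e) (exists_rGen h e) r_table hg three_norm_r
  have hwR := conj_mem_normalizer (code h e) (exists_rGen h e) r_table hw two_norm_r
  refine ⟨conj_mem_normalizer (code h e) (exists_gen h e) p_table hg three_norm_p, ?_, ?_⟩
  · have hwo : ∃ k, orderOf w = 2 ^ k := by
      obtain ⟨k, -, hk⟩ := (Nat.dvd_prime_pow Nat.prime_two).mp
        (show orderOf w ∣ 2 ^ 1 from orderOf_dvd_of_pow_eq_one (by rw [pow_one, pow_two, hw2]))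
      exact ⟨k, hk⟩
    have h1 : w ∈ twoGen (rSub h e) := Subgroup.subset_closure ⟨hwR, hwo⟩
    have h2 : g * w * g⁻¹ ∈ twoGen (rSub h e) := by
      refine Subgroup.subset_closure ⟨mul_mem (mul_mem hgR hwR) (inv_mem hgR), ?_⟩
      rw [← MulAut.conj_apply, MulEquiv.orderOf_eq]
      exact hwo
    have h4 : w * g⁻¹ * w⁻¹ = g := by
      have := congrArg (·⁻¹) hconj
      rw [mul_inv_rev, mul_inv_rev, inv_inv, ← mul_assoc] at this
      rw [this]
      exact inv_eq_of_mul_eq_one_right (by rw [mul_assoc]; exact hg3)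
    have hp : g * w * g⁻¹ * w⁻¹ = g * g := by
      rw [mul_assoc g w, mul_assoc g, h4]
    have hgg : g * g ∈ twoGen (rSub h e) := hp ▸ mul_mem h2 (inv_mem h1)
    have : g = (g * g) * (g * g) := by
      calc g = g * (g * (g * g)) := by rw [hg3, mul_one]
        _ = (g * g) * (g * g) := by rw [mul_assoc]
    rw [this]
    exact mul_mem hgg hgg
  · obtain ⟨a, ha, hf⟩ := List.any_eq_true.mp three_moves
    obtain ⟨x, hx⟩ := exists_gen h e a ha
    refine ⟨x, mem_gen (code h e) ha hx, fun hmem => ?_⟩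
    obtain ⟨f, hf', hfr⟩ := ((tab_spec (code h e) (exists_fGen' h e) f_table).2.1 _).mp hmem
    have hne := List.all_eq_true.mp hf f hf'
    rw [bne_iff_ne] at hne
    refine hne ((code h e).rep_code ((code h e).rep_mul hg hx) ?_)
    have := (code h e).rep_mul ((code h e).rep_mul hfr hx) hg
    simpa [mul_assoc, code] using this

include h e in
theorem main (S : Sylow 2 G) : (Cfsg.groupFusionSystem (S : Subgroup G)).IsSimple 2 := by
  have : Fact (Nat.Prime 2) := ⟨Nat.prime_two⟩
  obtain ⟨P, hP⟩ := exists_sylow h e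
  obtain ⟨hp1, hp2, hp3⟩ := p_spec h e
  have ht := three_val
  simp only [Bool.and_eq_true, beq_iff_eq] at ht
  obtain ⟨⟨hth, -⟩, htz⟩ := ht
  obtain ⟨z, hz⟩ : ∃ z, (code h e).Rep zTwo z := by
    rw [← htz]
    rcases getD_cases pTab _ PcJankoThree.oneN with hi | hi
    · exact (hp1 _ hi).imp fun _ hx => hx.2
    · rw [hi]; exact ⟨1, (code h e).rep_one⟩
  obtain ⟨g, hg⟩ : ∃ g, (code h e).Rep hThree g := hth ▸ exists_val h e _
  obtain ⟨hgN, hgT, hgx⟩ := three_spec h e hg
  refine isSimple_of_frame S P ?_ z ?_ ?_ ?_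
  · intro hbot
    rw [← hP, hbot, Subgroup.card_bot] at hp3
    exact absurd hp3 (by norm_num)
  · rw [hP]
    intro w hw hwc
    obtain ⟨c, hc, hcr⟩ := (hp2 w).mp hw
    have := List.all_eq_true.mp p_center c hc
    simp only [Bool.or_eq_true, beq_iff_eq, List.any_eq_true, bne_iff_ne] at this
    rcases this with (rfl | rfl) | ⟨a, ha, hne⟩
    · exact Or.inl ((code h e).rep_uniq hcr (code h e).rep_one)
    · exact Or.inr ((code h e).rep_uniq hcr hz)
    · obtain ⟨y, hy⟩ := exists_gen h e a ha
      refine absurd ((code h e).rep_code ((code h e).rep_mul hcr hy) ?_) hne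
      rw [hwc y (mem_gen (code h e) ha hy)]
      exact (code h e).rep_mul hy hcr
  · rw [hP]
    intro K hzK hclosed
    have hk := known_ok
    simp only [Bool.and_eq_true, beq_iff_eq, List.all_eq_true, List.mem_range, Nat.blt_eq] at hk
    obtain ⟨⟨⟨⟨hk0, hklen⟩, hstep⟩, hgens⟩, hmap⟩ := hk
    have hknown : ∀ i < known.length, ∃ x ∈ K, (code h e).Rep (known.getD i PcJankoThree.oneN) x := by
      intro i
      induction i using Nat.strong_induction_on with
      | _ i ih =>
      intro hi
      rcases i with - | j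
      · exact ⟨z, hzK, hk0 ▸ hz⟩
      have hs := hstep j (by omega)
      simp only [stepOK] at hs
      rcases hcase : knownHow.getD j (false, 0, 0) with ⟨_ | _, a, b⟩ <;>
        simp only [hcase, Bool.and_eq_true, Nat.ble_eq, beq_iff_eq] at hs
      · obtain ⟨⟨ha, hb⟩, he⟩ := hs
        obtain ⟨x, hxK, hx⟩ := ih a (by omega) (by omega)
        obtain ⟨y, hyK, hy⟩ := ih b (by omega) (by omega)
        exact ⟨x * y, mul_mem hxK hyK, he ▸ (code h e).rep_mul hx hy⟩
      · obtain ⟨⟨hb, hin⟩, he⟩ := hs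
        obtain ⟨x, hxK, hx⟩ := ih b (by omega) (by omega)
        obtain ⟨u, hu⟩ := exists_val h e a
        obtain ⟨y, hyP, hy⟩ := hp1 _ (List.contains_iff_mem.mp hin)
        have heq := conj_eq (code h e) hu hx hy he
        exact ⟨y, heq ▸ hclosed u x hxK (heq ▸ hyP), hy⟩
    rw [pSub, gen, Subgroup.closure_le]
    rintro x ⟨c, hc, hx⟩
    rw [← hmap] at hc
    obtain ⟨i, hi, rfl⟩ := List.mem_map.mp hc
    obtain ⟨y, hyK, hy⟩ := hknown i (hgens i hi)
    exact (code h e).rep_uniq hy hx ▸ hyK
  · rw [hP]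
    intro u hu _
    right
    refine ⟨rSub h e, rSub_le h e, fun y hy x hx => (Subgroup.mem_normalizer_iff.mp (p_normalizes_r h e hy) x).mp hx,
      ?_, ?_⟩
    · intro c hc
      let C := Subgroup.centralizer (rSub h e : Set G)
      have hC : IsPGroup 2 C := by
        rintro ⟨v, hv⟩
        obtain ⟨a, b, hab, -, hb, ⟨k, hk⟩, hbo⟩ := odd_mem_zpowers_split v
        have hbC : b ∈ C := Subgroup.zpowers_le.mpr hv hb
        have hb1 := eq_one_of_odd h e hbo fun x hx => (Subgroup.mem_centralizer_iff.mp hbC x hx).symm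
        refine ⟨k, Subtype.ext ?_⟩
        show v ^ 2 ^ k = 1
        rw [hab, hb1, mul_one, ← hk, pow_orderOf_eq_one]
      have hPC : pSub h e ≤ Subgroup.normalizer (C : Set G) := fun y hy =>
        Subgroup.mem_normalizer_fintype fun v hv => by
          rw [SetLike.mem_coe, Subgroup.mem_centralizer_iff] at hv ⊢
          intro x hx
          have hx' := (Subgroup.mem_normalizer_iff''.mp (p_normalizes_r h e hy) x).mp hx
          have := congrArg (fun t => y * t * y⁻¹) (hv _ hx')
          simpa [mul_assoc] using this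
      have hsup : IsPGroup 2 (C ⊔ pSub h e : Subgroup G) :=
        IsPGroup.to_sup_of_normal_left' hC (hP ▸ P.isPGroup') hPC
      have hle := P.is_maximal' hsup (hP.le.trans le_sup_right)
      have hcP : c ∈ pSub h e := hP ▸ hle ▸ Subgroup.mem_sup_left
        (Subgroup.mem_centralizer_iff.mpr fun x hx => (hc x hx).symm)
      obtain ⟨d, hd, hdr⟩ := (hp2 c).mp hcP
      have := List.all_eq_true.mp r_centric d hd
      simp only [Bool.or_eq_true, List.any_eq_true, bne_iff_ne, List.contains_iff_mem] at this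
      rcases this with hR | ⟨a, ha, hne⟩
      · exact ((tab_spec (code h e) (exists_rGen h e) r_table).2.1 c).mpr ⟨d, hR, hdr⟩
      · obtain ⟨y, hy⟩ := exists_rGen h e a ha
        refine absurd ((code h e).rep_code ((code h e).rep_mul hdr hy) ?_) hne
        rw [hc y (mem_gen (code h e) ha hy)]
        exact (code h e).rep_mul hy hdr
    · -- the automorphism group
      have hcardF : Nat.card (pSub h e) = Nat.card (fSub h e) * 8 := by
        rw [hp3, fSub, (tab_spec (code h e) (exists_fGen' h e) f_table).2.2, f_length]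
      obtain ⟨K, hKn, h168, hidx, hK⟩ := exists_action (pSub h e) (fSub h e) (fSub_le h e) hcardF
        (fun x hx => sq_mem_fSub h e hx) (fun n hn x hx => conj_mem_fSub h e hn hx)
      let ψ := QuotientGroup.mk' K
      have hψ : ∀ n, ψ n = 1 ↔ ∀ x ∈ pSub h e, (n : G) * x * (n : G)⁻¹ * x⁻¹ ∈ fSub h e :=
        fun n => (QuotientGroup.eq_one_iff n).trans (hK n)
      have hKcard : K.index = Nat.card ψ.range := by rw [← Subgroup.index_ker, QuotientGroup.ker_mk']
      rw [hKcard] at h168 hidx
      have hindex : (pSub h e).index = 392445 := by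
        have := (pSub h e).card_mul_index
        rw [hp3, Nat.card_congr e.toEquiv, h.card_J3] at this
        omega
      have h3 : Nat.card ψ.range ∣ 3 := by
        have := Nat.dvd_gcd h168 (hindex ▸ hidx)
        exact this.trans (by decide +kernel)
      have huN : u ∈ Subgroup.normalizer (pSub h e : Set G) := Subgroup.mem_normalizer_fintype fun y hy => hu y hy
      let g' : Subgroup.normalizer (pSub h e : Set G) := ⟨g, hgN⟩
      let u' : Subgroup.normalizer (pSub h e : Set G) := ⟨u, huN⟩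
      have hgne : ψ g' ≠ 1 := fun h1 => by
        obtain ⟨x, hx, hne⟩ := hgx
        exact hne ((hψ g').mp h1 x hx)
      have hzp : ψ.range ≤ Subgroup.zpowers (ψ g') := by
        have hle : Subgroup.zpowers (ψ g') ≤ ψ.range := Subgroup.zpowers_le.mpr ⟨g', rfl⟩
        have hfin : Finite ψ.range := Finite.of_surjective ψ.rangeRestrict ψ.rangeRestrict_surjective
        refine (Subgroup.eq_of_le_of_card_ge hle ?_).ge
        have ho : orderOf (ψ g') ∣ 3 := by
          rw [← Nat.card_zpowers]; exact (Subgroup.card_dvd_of_le hle).trans h3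
        rcases (Nat.dvd_prime Nat.prime_three).mp ho with h' | h'
        · exact absurd (orderOf_eq_one_iff.mp h') hgne
        · rw [Nat.card_zpowers, h']; exact Nat.le_of_dvd (by norm_num) h3
      obtain ⟨i, hi⟩ := Subgroup.mem_zpowers_iff.mp (hzp ⟨u', rfl⟩)
      let v : Subgroup.normalizer (pSub h e : Set G) := (g' ^ i)⁻¹ * u'
      have hv1 : ψ v = 1 := by rw [map_mul, map_inv, map_zpow, hi, inv_mul_cancel]
      suffices hv : (v : G) ∈ twoGen (rSub h e) by
        have : u = g ^ i * (v : G) := by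
          show u = g ^ i * ((g ^ i)⁻¹ * u)
          rw [mul_inv_cancel_left]
        rw [this]
        exact mul_mem (zpow_mem hgT i) hv
      obtain ⟨a, b, hab, ha, hb, ⟨k, hk⟩, hbo⟩ := odd_mem_zpowers_split v
      have hab' : (v : G) = (a : G) * b := congrArg Subtype.val hab
      have hbψ : ψ b = 1 := by
        obtain ⟨j, rfl⟩ := Subgroup.mem_zpowers_iff.mp hb
        rw [map_zpow, hv1, one_zpow]
      have hb1 : (b : G) = 1 := by
        refine eq_one_of_odd h e (by rwa [orderOf_submonoid]) fun x hx => ?_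
        have hle := CfsgLib.Coprime.le_centralizer_of_trivial_on_frattini (Subgroup.zpowers (b : G)) (pSub h e)
          (Subgroup.zpowers_le.mpr b.2) ?_ ?_
        · exact (Subgroup.mem_centralizer_iff.mp (hle (Subgroup.mem_zpowers _)) x (rSub_le h e hx)).symm
        · have hodd : Nat.Coprime (Nat.card (Subgroup.zpowers (b : G))) (2 ^ 7) := by
            rw [Nat.card_zpowers, orderOf_submonoid]
            exact Nat.Coprime.pow_right 7 (Nat.coprime_two_right.mpr hbo)
          exact hodd.coprime_dvd_right (by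
            rw [show (2 : ℕ) ^ 7 = Nat.card (pSub h e) by rw [hp3]; norm_num]
            exact Subgroup.card_subgroup_dvd_card _)
        · intro t ht x hx
          obtain ⟨j, rfl⟩ := Subgroup.mem_zpowers_iff.mp ht
          refine fSub_le_frattini h e ?_
          have := (hψ (b ^ j)).mp (by rw [map_zpow, hbψ, one_zpow]) x hx
          simpa using this
      rw [hab', hb1, mul_one]
      have haN : (a : G) ∈ Subgroup.normalizer (pSub h e : Set G) := a.2
      have hak : orderOf (a : G) = 2 ^ k := by rw [orderOf_submonoid]; exact hk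
      have haP : (a : G) ∈ pSub h e := by
        have hz' : IsPGroup 2 (Subgroup.zpowers (a : G)) :=
          IsPGroup.of_card (n := k) (by rw [Nat.card_zpowers, hak])
        have hsup : IsPGroup 2 (Subgroup.zpowers (a : G) ⊔ pSub h e : Subgroup G) :=
          IsPGroup.to_sup_of_normal_right' hz' (hP ▸ P.isPGroup') (Subgroup.zpowers_le.mpr haN)
        have hle := P.is_maximal' hsup (hP.le.trans le_sup_right)
        exact hP.le (hle.le (Subgroup.mem_sup_left (Subgroup.mem_zpowers _)))
      exact Subgroup.subset_closure ⟨p_normalizes_r h e haP, k, hak⟩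

end CfsgLib.Fusion48.JankoThree
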