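import Cfsg.Agent.Lib.SympSylow.Main
import Cfsg.Agent.Lib.Sp.Group

/-!
Kronecker products `e ⊗ f` of 2 × 2 matrices inside `Sp(4)`, monomial elements written that way, and the
centralizers of `1 ⊗ diag(1,-1)` and `1 ⊗ swap`.
-/

set_option autoImplicit false
set_option linter.unusedSectionVars false

open Matrix

namespace CfsgLib.Fusion48.SpFour

open CfsgLib.SympSylow

variable {F : Type*} [Field F]

local notation "M2" => Matrix (Fin 2) (Fin 2) F

/-- The Kronecker product. -/
def kr (e f : M2) : Matrix (Fin 2 ⊕ Fin 2) (Fin 2 ⊕ Fin 2) F :=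
  fromBlocks (e 0 0 • f) (e 0 1 • f) (e 1 0 • f) (e 1 1 • f)

/-- `diag(1,-1)`. -/
def mS : M2 := !![1, 0; 0, -1]

/-- The swap. -/
def mT : M2 := !![0, 1; 1, 0]

/-- The reflection exchanging the two. -/
def mF : M2 := !![1, 1; 1, -1]

theorem kr_mul (e f e' f' : M2) : kr e f * kr e' f' = kr (e * e') (f * f') := by
  simp only [kr, fromBlocks_multiply, Matrix.smul_mul, Matrix.mul_smul, smul_smul, ← add_smul,
    Matrix.mul_apply, Fin.sum_univ_two]
  congr 1 <;> congr 1 <;> ring

theorem kr_one : kr (1 : M2) 1 = 1 := by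
  simp [kr, fromBlocks_one]

theorem kr_smul_left (c : F) (e f : M2) : kr (c • e) f = c • kr e f := by
  simp [kr, fromBlocks_smul, smul_smul]

theorem kr_smul_right (c : F) (e f : M2) : kr e (c • f) = c • kr e f := by
  simp [kr, fromBlocks_smul, smul_smul, mul_comm]

theorem kr_neg_left (e f : M2) : kr (-e) f = -kr e f := by
  simp [kr, fromBlocks_neg]

theorem kr_neg_right (e f : M2) : kr e (-f) = -kr e f := by
  simp [kr, fromBlocks_neg]

theorem kr_transpose (e f : M2) : (kr e f)ᵀ = kr eᵀ fᵀ := by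
  simp [kr, fromBlocks_transpose, transpose_smul]

theorem kr_J : kr !![0, -1; 1, 0] (1 : M2) = Matrix.J (Fin 2) F := by
  simp [kr, Matrix.J]

theorem kr_left_inj {e e' : M2} (h : kr e 1 = kr e' 1) : e = e' := by
  obtain ⟨h1, h2, h3, h4⟩ := fromBlocks_inj.1 h
  have k : ∀ {c d : F}, c • (1 : M2) = d • 1 → c = d := fun h => by
    simpa using congrFun (congrFun h 0) 0
  ext i j
  fin_cases i <;> fin_cases j
  · exact k h1
  · exact k h2
  · exact k h3
  · exact k h4

theorem det_form (e : M2) : e * !![0, -1; 1, 0] * eᵀ = e.det • !![(0 : F), -1; 1, 0] := by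
  ext i j
  fin_cases i <;> fin_cases j <;> simp [Matrix.mul_apply, Fin.sum_univ_two, Matrix.det_fin_two] <;> ring

/-- `e ⊗ f` as an element of `Sp(4)`, for `f` a similitude. -/
def krSp (e f : M2) (μ : F) (hf : f * fᵀ = μ • 1) (h : e.det * μ = 1) : Matrix.symplecticGroup (Fin 2) F :=
  ⟨kr e f, by
    rw [SymplecticGroup.mem_iff, ← kr_J, kr_transpose, kr_mul, kr_mul, det_form, Matrix.mul_one, hf,
      kr_smul_left, kr_smul_right, smul_smul, h, one_smul]⟩

theorem mS_mul_transpose : (mS : M2) * mSᵀ = (1 : F) • 1 := by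
  ext i j; fin_cases i <;> fin_cases j <;> simp [mS, Matrix.mul_apply, Fin.sum_univ_two]

theorem mS_sq : (mS : M2) * mS = 1 := by
  ext i j; fin_cases i <;> fin_cases j <;> simp [mS, Matrix.mul_apply, Fin.sum_univ_two]

theorem mT_sq : (mT : M2) * mT = 1 := by
  ext i j; fin_cases i <;> fin_cases j <;> simp [mT, Matrix.mul_apply, Fin.sum_univ_two]

theorem mT_mS : (mT : M2) * mS = -(mS * mT) := by
  ext i j; fin_cases i <;> fin_cases j <;> simp [mS, mT, Matrix.mul_apply, Fin.sum_univ_two]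

theorem mF_mul_transpose : (mF : M2) * mFᵀ = (2 : F) • 1 := by
  ext i j; fin_cases i <;> fin_cases j <;> simp [mF, Matrix.mul_apply, Fin.sum_univ_two] <;> norm_num

theorem mF_sq : (mF : M2) * mF = (2 : F) • 1 := by
  ext i j; fin_cases i <;> fin_cases j <;> simp [mF, Matrix.mul_apply, Fin.sum_univ_two] <;> norm_num

theorem mF_mS : (mF : M2) * mS = mT * mF := by
  ext i j; fin_cases i <;> fin_cases j <;> simp [mF, mS, mT, Matrix.mul_apply, Fin.sum_univ_two]

theorem mF_mT : (mF : M2) * mT = mS * mF := by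
  ext i j; fin_cases i <;> fin_cases j <;> simp [mF, mS, mT, Matrix.mul_apply, Fin.sum_univ_two]

/-! ### Monomial elements -/

local notation "SL2" => Matrix.SpecialLinearGroup (Fin 2) F

/-- The unswapped monomial element with blocks `x`, `y`. -/
def di (x y : SL2) : Mon SL2 (Fin 2) := SemidirectProduct.inl ![x, y]

/-- The swap in the monomial group. -/
def sw : Mon SL2 (Fin 2) := SemidirectProduct.inr (Equiv.swap 0 1)

theorem di_left (x y : SL2) : (di x y).left = ![x, y] := rfl

theorem di_right (x y : SL2) : (di x y).right = 1 := rfl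

theorem di_mul (x y x' y' : SL2) : di x y * di x' y' = di (x * x') (y * y') := by
  rw [di, di, ← map_mul, di]
  congr 1
  ext i : 1
  fin_cases i <;> rfl

theorem di_one : di (1 : SL2) 1 = 1 := by
  rw [di, ← map_one (SemidirectProduct.inl : (Fin 2 → SL2) →* Mon SL2 (Fin 2))]
  congr 1
  ext i : 1
  fin_cases i <;> rfl

theorem di_inv (x y : SL2) : (di x y)⁻¹ = di x⁻¹ y⁻¹ :=
  inv_eq_of_mul_eq_one_right (by rw [di_mul, mul_inv_cancel, mul_inv_cancel, di_one])

theorem di_inj {x y x' y' : SL2} (h : di x y = di x' y') : x = x' ∧ y = y' := by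
  have e := congrArg SemidirectProduct.left h
  exact ⟨congrFun e 0, congrFun e 1⟩

theorem sw_di (x y : SL2) : sw * di x y = di y x * sw := by
  refine SemidirectProduct.ext (funext fun i => ?_) ?_
  · rw [mul_left_apply, mul_left_apply]
    fin_cases i <;> simp [sw, di]
  · simp [sw, di]

theorem sw_sq : (sw : Mon SL2 (Fin 2)) * sw = 1 := by
  rw [sw, ← map_mul, Equiv.swap_mul_self, map_one]

theorem mon_cases (w : Mon SL2 (Fin 2)) :
    w = di (w.left 0) (w.left 1) ∨ w = di (w.left 0) (w.left 1) * sw := by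
  have hl : w.left = ![w.left 0, w.left 1] := by ext i : 1; fin_cases i <;> rfl
  have hr : w.right = 1 ∨ w.right = Equiv.swap 0 1 := by
    generalize w.right = σ
    revert σ
    decide
  rcases hr with h | h
  · exact Or.inl (SemidirectProduct.ext hl h)
  · refine Or.inr (SemidirectProduct.ext (funext fun i => ?_) ?_)
    · rw [mul_left_apply, di_left, di_right, ← hl]
      simp [sw]
    · simp [sw, di, h]

theorem monMat_di (x y : SL2) : monMat (di x y) =
    fromBlocks (diagonal ![x.1 0 0, y.1 0 0]) (diagonal ![x.1 0 1, y.1 0 1])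
      (diagonal ![x.1 1 0, y.1 1 0]) (diagonal ![x.1 1 1, y.1 1 1]) := by
  rw [monMat, di_right]
  simp only [blk_one, di_left]
  congr 2 <;> ext i <;> fin_cases i <;> rfl

theorem monMat_const (x : SL2) : monMat (di x x) = kr x.1 1 := by
  rw [monMat_di, kr]
  congr 1 <;> ext i j <;> fin_cases i <;> fin_cases j <;> simp

theorem monMat_anti (x : SL2) : monMat (di x (-x)) = kr x.1 mS := by
  rw [monMat_di, kr]
  congr 1 <;> ext i j <;> fin_cases i <;> fin_cases j <;> simp [mS]

theorem monMat_sw : monMat (sw : Mon SL2 (Fin 2)) = kr 1 mT := by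
  rw [monMat, kr]
  congr 1 <;> ext i j <;> fin_cases i <;> fin_cases j <;> simp [blk, sw, mT]

/-! ### Centralizers -/

/-- A matrix commuting with `1 ⊗ diag(1,-1)` has diagonal blocks. -/
theorem blocks_of_comm_mS (h2 : (2 : F) ≠ 0) {M : Matrix (Fin 2 ⊕ Fin 2) (Fin 2 ⊕ Fin 2) F}
    (h : M * kr 1 mS = kr 1 mS * M) : ∃ a b c d : Fin 2 → F,
      M = fromBlocks (diagonal a) (diagonal b) (diagonal c) (diagonal d) := by
  have key : ∀ A : M2, A * mS = mS * A → A = diagonal ![A 0 0, A 1 1] := by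
    intro A hA
    have e1 := congrFun (congrFun hA 0) 1
    have e2 := congrFun (congrFun hA 1) 0
    simp [mS, Matrix.mul_apply, Fin.sum_univ_two] at e1 e2
    have h01 : (2 : F) * A 0 1 = 0 := by linear_combination -e1
    have h10 : (2 : F) * A 1 0 = 0 := by linear_combination e2
    have a01 := (mul_eq_zero.mp h01).resolve_left h2
    have a10 := (mul_eq_zero.mp h10).resolve_left h2
    ext i j
    fin_cases i <;> fin_cases j <;> simp [a01, a10]
  rw [← fromBlocks_toBlocks M, show kr (1 : M2) mS = fromBlocks mS 0 0 mS by simp [kr], fromBlocks_multiply,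
    fromBlocks_multiply] at h
  simp only [Matrix.mul_zero, Matrix.zero_mul, add_zero, zero_add] at h
  obtain ⟨h1, h2', h3, h4⟩ := fromBlocks_inj.1 h
  refine ⟨![M.toBlocks₁₁ 0 0, M.toBlocks₁₁ 1 1], ![M.toBlocks₁₂ 0 0, M.toBlocks₁₂ 1 1],
    ![M.toBlocks₂₁ 0 0, M.toBlocks₂₁ 1 1], ![M.toBlocks₂₂ 0 0, M.toBlocks₂₂ 1 1], ?_⟩
  rw [← key _ h1, ← key _ h2', ← key _ h3, ← key _ h4, fromBlocks_toBlocks]

/-- A symplectic matrix commuting with `1 ⊗ diag(1,-1)` is monomial. -/
theorem exists_di_of_comm (h2 : (2 : F) ≠ 0) (A : Matrix.symplecticGroup (Fin 2) F)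
    (h : A.1 * kr 1 mS = kr 1 mS * A.1) : ∃ x y : SL2, monSp (di x y) = A := by
  obtain ⟨a, b, c, d, hM⟩ := blocks_of_comm_mS h2 h
  have hA := A.2
  rw [SymplecticGroup.mem_iff, hM, fromBlocks_transpose, Matrix.J, fromBlocks_multiply, fromBlocks_multiply]
    at hA
  obtain ⟨-, h12, -, -⟩ := fromBlocks_inj.1 hA
  have hdet : ∀ i, a i * d i - b i * c i = 1 := by
    intro i
    have e := congrFun (congrFun h12 i) i
    simp [Matrix.mul_apply, Matrix.diagonal, Finset.sum_ite_eq, Finset.sum_ite_eq'] at e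
    linear_combination -e
  let x : Fin 2 → SL2 := fun i => ⟨!![a i, b i; c i, d i], by rw [det_fin_two_of]; exact hdet i⟩
  refine ⟨x 0, x 1, Subtype.ext ?_⟩
  show monMat (di (x 0) (x 1)) = A.1
  rw [monMat_di, hM]
  congr 2 <;> ext i <;> fin_cases i <;> rfl

/-- A matrix commuting with `1 ⊗ diag(1,-1)` and `1 ⊗ swap` is `e ⊗ 1`. -/
theorem exists_kr_of_comm (h2 : (2 : F) ≠ 0) {M : Matrix (Fin 2 ⊕ Fin 2) (Fin 2 ⊕ Fin 2) F}
    (hS : M * kr 1 mS = kr 1 mS * M) (hT : M * kr 1 mT = kr 1 mT * M) : ∃ e : M2, M = kr e 1 := by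
  obtain ⟨a, b, c, d, rfl⟩ := blocks_of_comm_mS h2 hS
  rw [show kr (1 : M2) mT = fromBlocks mT 0 0 mT by simp [kr], fromBlocks_multiply, fromBlocks_multiply] at hT
  simp only [Matrix.mul_zero, Matrix.zero_mul, add_zero, zero_add] at hT
  obtain ⟨h1, h2', h3, h4⟩ := fromBlocks_inj.1 hT
  have key : ∀ v : Fin 2 → F, diagonal v * mT = mT * diagonal v → diagonal v = v 0 • (1 : M2) := by
    intro v hv
    have e := congrFun (congrFun hv 0) 1
    simp [mT, Matrix.mul_apply, Fin.sum_univ_two] at e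
    ext i j
    fin_cases i <;> fin_cases j <;> simp [e]
  refine ⟨!![a 0, b 0; c 0, d 0], ?_⟩
  rw [key a h1, key b h2', key c h3, key d h4]
  rfl

end CfsgLib.Fusion48.SpFour
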