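import Mathlib

/-!
Subgroups of a group given by coded elements, described by kernel-checkable tables.
-/

set_option autoImplicit false

namespace CfsgLib.Fusion48.RepTable

/-- A group with a coding of its elements. -/
structure Coded (G : Type*) [Group G] where
  /-- `c` codes `x` -/
  Rep : ℕ → G → Prop
  /-- product of codes -/
  mul : ℕ → ℕ → ℕ
  /-- code of the identity -/
  one : ℕ
  rep_one : Rep one 1
  rep_mul : ∀ {a b : ℕ} {x y : G}, Rep a x → Rep b y → Rep (mul a b) (x * y)
  rep_uniq : ∀ {a : ℕ} {x y : G}, Rep a x → Rep a y → x = y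
  rep_code : ∀ {a b : ℕ} {x : G}, Rep a x → Rep b x → a = b

/-- No repetitions. -/
def nodupB : List ℕ → Bool
  | [] => true
  | x :: xs => !xs.contains x && nodupB xs

theorem nodup_of_nodupB : ∀ {l : List ℕ}, nodupB l = true → l.Nodup
  | [], _ => List.nodup_nil
  | x :: xs, h => by
    simp only [nodupB, Bool.and_eq_true, Bool.not_eq_true', List.contains_eq_mem, decide_eq_false_iff_not] at h
    exact List.nodup_cons.mpr ⟨h.1, nodup_of_nodupB h.2⟩

/-- Entry `i + 1` of the table is the product of an earlier entry and a generator, and the table is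
closed under the generators. -/
def tabOK (mul : ℕ → ℕ → ℕ) (one : ℕ) (gens L : List ℕ) (par : List (ℕ × ℕ)) : Bool :=
  Nat.blt 0 L.length && L.getD 0 one == one && nodupB L &&
    (List.range (L.length - 1)).all (fun i =>
      Nat.ble (par.getD (i + 1) (0, 0)).1 i && Nat.blt (par.getD (i + 1) (0, 0)).2 gens.length &&
        L.getD (i + 1) one ==
          mul (L.getD (par.getD (i + 1) (0, 0)).1 one) (gens.getD (par.getD (i + 1) (0, 0)).2 one)) &&
    gens.all (fun g => L.all fun c => L.contains (mul c g))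

/-- A straight line program: each further value is a product of two earlier ones. -/
def slpOK (mul : ℕ → ℕ → ℕ) (one : ℕ) (base vals : List ℕ) (prog : List (ℕ × ℕ)) : Bool :=
  vals.take base.length == base && vals.length == base.length + prog.length &&
    (List.range prog.length).all fun i =>
      Nat.blt (prog.getD i (0, 0)).1 (base.length + i) && Nat.blt (prog.getD i (0, 0)).2 (base.length + i) &&
        vals.getD (base.length + i) one ==
          mul (vals.getD (prog.getD i (0, 0)).1 one) (vals.getD (prog.getD i (0, 0)).2 one)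

variable {G : Type*} [Group G] (C : Coded G)

/-- The subgroup generated by the coded elements of a list. -/
def gen (cs : List ℕ) : Subgroup G := Subgroup.closure {x | ∃ c ∈ cs, C.Rep c x}

theorem mem_gen {cs : List ℕ} {c : ℕ} (hc : c ∈ cs) {x : G} (hx : C.Rep c x) : x ∈ gen C cs :=
  Subgroup.subset_closure ⟨c, hc, hx⟩

theorem getD_cases (cs : List ℕ) (i d : ℕ) : cs.getD i d ∈ cs ∨ cs.getD i d = d := by
  rcases Nat.lt_or_ge i cs.length with h | h
  · exact Or.inl (by rw [List.getD_eq_getElem _ _ h]; exact List.getElem_mem h)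
  · exact Or.inr (List.getD_eq_default _ _ h)

/-- The facts read from a checked table. -/
theorem tab_spec [Finite G] {cs L : List ℕ} {par : List (ℕ × ℕ)}
    (hcs : ∀ c ∈ cs, ∃ x, C.Rep c x) (hok : tabOK C.mul C.one cs L par = true) :
    (∀ c ∈ L, ∃ x, x ∈ gen C cs ∧ C.Rep c x) ∧ (∀ x, x ∈ gen C cs ↔ ∃ c ∈ L, C.Rep c x) ∧
      Nat.card (gen C cs) = L.length := by
  simp only [tabOK, Bool.and_eq_true, Nat.blt_eq, Nat.ble_eq, beq_iff_eq, List.all_eq_true, List.mem_range,
    List.contains_eq_mem, decide_eq_true_eq] at hok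
  obtain ⟨⟨⟨⟨hpos, h0⟩, hnd⟩, hpar⟩, hclosed⟩ := hok
  have hmem : ∀ i, i < L.length → ∃ x, x ∈ gen C cs ∧ C.Rep (L.getD i C.one) x := by
    intro i
    induction i using Nat.strong_induction_on with
    | _ i ih =>
    intro hi
    rcases i with - | j
    · exact ⟨1, one_mem _, by rw [h0]; exact C.rep_one⟩
    · obtain ⟨⟨hp, hg⟩, he⟩ := hpar j (by omega)
      obtain ⟨x, hx, hxr⟩ := ih _ (show (par.getD (j + 1) (0, 0)).1 < j + 1 by omega) (by omega)
      have hgm : cs.getD (par.getD (j + 1) (0, 0)).2 C.one ∈ cs := by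
        rw [List.getD_eq_getElem _ _ hg]; exact List.getElem_mem hg
      obtain ⟨y, hy⟩ := hcs _ hgm
      exact ⟨x * y, mul_mem hx (mem_gen C hgm hy), by rw [he]; exact C.rep_mul hxr hy⟩
  have h1 : ∀ c ∈ L, ∃ x, x ∈ gen C cs ∧ C.Rep c x := by
    intro c hc
    obtain ⟨i, hi, rfl⟩ := List.getElem_of_mem hc
    obtain ⟨x, hx, hxr⟩ := hmem i hi
    rw [List.getD_eq_getElem _ _ hi] at hxr
    exact ⟨x, hx, hxr⟩
  have hone : C.one ∈ L := by
    rw [← h0, List.getD_eq_getElem _ _ hpos]; exact List.getElem_mem hpos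
  have h2 : ∀ x, x ∈ gen C cs ↔ ∃ c ∈ L, C.Rep c x := by
    intro x
    constructor
    · intro hx
      have hx' : x ∈ Submonoid.closure {x | ∃ c ∈ cs, C.Rep c x} := by
        rw [← Subgroup.closure_toSubmonoid_of_finite]; exact hx
      induction hx' using Submonoid.closure_induction_right with
      | one => exact ⟨C.one, hone, C.rep_one⟩
      | mul_right y hy g hg ih =>
        obtain ⟨c, hc, hcr⟩ := hg
        obtain ⟨d, hd, hdr⟩ := ih (by
          have : y ∈ (Subgroup.closure {x | ∃ c ∈ cs, C.Rep c x}).toSubmonoid := by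
            rw [Subgroup.closure_toSubmonoid_of_finite]; exact hy
          exact this)
        exact ⟨C.mul d c, hclosed c hc d hd, C.rep_mul hdr hcr⟩
    · rintro ⟨c, hc, hcr⟩
      obtain ⟨y, hy, hyr⟩ := h1 c hc
      exact C.rep_uniq hyr hcr ▸ hy
  refine ⟨h1, h2, ?_⟩
  choose f hf hfr using h1
  let F : {c // c ∈ L} → gen C cs := fun c => ⟨f c.1 c.2, hf c.1 c.2⟩
  have hF : Function.Bijective F := by
    constructor
    · intro a b e
      have e' : f a.1 a.2 = f b.1 b.2 := congrArg Subtype.val e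
      exact Subtype.ext (C.rep_code (hfr a.1 a.2) (e' ▸ hfr b.1 b.2))
    · rintro ⟨x, hx⟩
      obtain ⟨c, hc, hcr⟩ := (h2 x).mp hx
      exact ⟨⟨c, hc⟩, Subtype.ext (C.rep_uniq (hfr c hc) hcr)⟩
  rw [← Nat.card_eq_of_bijective F hF, Nat.card_eq_fintype_card, Fintype.card_of_subtype L.toFinset
    (fun c => List.mem_toFinset), List.toFinset_card_of_nodup (nodup_of_nodupB hnd)]

/-- Every value of a checked program codes an element. -/
theorem slp_spec {base vals : List ℕ} {prog : List (ℕ × ℕ)} (hbase : ∀ c ∈ base, ∃ x, C.Rep c x)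
    (hok : slpOK C.mul C.one base vals prog = true) (i : ℕ) : ∃ x, C.Rep (vals.getD i C.one) x := by
  simp only [slpOK, Bool.and_eq_true, beq_iff_eq, Nat.blt_eq, List.all_eq_true, List.mem_range] at hok
  obtain ⟨⟨htake, hlen⟩, hstep⟩ := hok
  induction i using Nat.strong_induction_on with
  | _ i ih =>
  rcases Nat.lt_or_ge i vals.length with hi | hi
  swap
  · exact ⟨1, by rw [List.getD_eq_default _ _ hi]; exact C.rep_one⟩
  rcases Nat.lt_or_ge i base.length with hb | hb
  · refine hbase _ ?_
    have hl : i < (vals.take base.length).length := by rw [htake]; exact hb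
    have hm : vals[i] ∈ vals.take base.length := by
      rw [← List.getElem_take (h := hl)]; exact List.getElem_mem hl
    rw [List.getD_eq_getElem _ _ hi]
    exact htake ▸ hm
  · obtain ⟨k, rfl⟩ := Nat.exists_eq_add_of_le hb
    obtain ⟨⟨ha, hb'⟩, he⟩ := hstep k (by omega)
    obtain ⟨x, hx⟩ := ih _ ha
    obtain ⟨y, hy⟩ := ih _ hb'
    exact ⟨x * y, by rw [he]; exact C.rep_mul hx hy⟩

/-- A conjugation relation read off codes. -/
theorem conj_eq {a b c : ℕ} {x g y : G} (hg : C.Rep a g) (hx : C.Rep b x) (hy : C.Rep c y)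
    (h : C.mul a b = C.mul c a) : g * x * g⁻¹ = y := by
  rw [mul_inv_eq_iff_eq_mul]
  exact C.rep_uniq (C.rep_mul hg hx) (h ▸ C.rep_mul hy hg)

/-- An element whose conjugation maps a list into a table normalizes. -/
theorem conj_mem_normalizer [Finite G] {cs L : List ℕ} {par : List (ℕ × ℕ)}
    (hcs : ∀ c ∈ cs, ∃ x, C.Rep c x) (hok : tabOK C.mul C.one cs L par = true) {a : ℕ} {g : G}
    (hg : C.Rep a g) (h : cs.all (fun c => L.any fun d => C.mul a c == C.mul d a) = true) :
    g ∈ Subgroup.normalizer (gen C cs : Set G) := by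
  obtain ⟨h1, h2, -⟩ := tab_spec C hcs hok
  refine Subgroup.mem_normalizer_fintype fun v hv => ?_
  have hle : (gen C cs).map (MulAut.conj g).toMonoidHom ≤ gen C cs := by
    rw [gen, MonoidHom.map_closure, Subgroup.closure_le]
    rintro _ ⟨x, ⟨c, hc, hx⟩, rfl⟩
    obtain ⟨d, hd, he⟩ := List.any_eq_true.mp (List.all_eq_true.mp h c hc)
    obtain ⟨y, hy, hyr⟩ := h1 d hd
    show g * x * g⁻¹ ∈ gen C cs
    rw [conj_eq C hg hx hyr (beq_iff_eq.mp he)]
    exact hy
  exact hle ⟨v, hv, rfl⟩

end CfsgLib.Fusion48.RepTable
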