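import Cfsg.Agent.Lib.SL2Tori.Basic
import Cfsg.Agent.Lib.TwoGroups.OneInvolution
import Cfsg.Agent.Lib.Fusion.DihedralTop

/-!
Sylow 2-subgroups of `SL(2,q)`, `q` odd, through a quaternion pair `I`, `J`: they are generated by square
roots of `-1`, and an element of odd order normalizing one is a power of the three-cycle `d` modulo it.
-/

set_option autoImplicit false
set_option linter.unusedSectionVars false

open Matrix

namespace CfsgLib.Fusion48.Q8

variable {F : Type*} [Field F]

/-- The matrix of `I`. -/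
def mI : Matrix (Fin 2) (Fin 2) F := !![0, 1; -1, 0]

/-- The matrix of `J`. -/
def mJ (a b : F) : Matrix (Fin 2) (Fin 2) F := !![a, b; b, -a]

/-- The matrix of `IJ`. -/
def mK (a b : F) : Matrix (Fin 2) (Fin 2) F := !![b, -a; -a, -b]

/-- Twice the three-cycle. -/
def mD (a b : F) : Matrix (Fin 2) (Fin 2) F := !![-1 - a - b, -1 + a - b; 1 + a - b, -1 + a + b]

/-- An element inverting the three-cycle. -/
def mE (a b : F) : Matrix (Fin 2) (Fin 2) F := !![-a, 1 - b; -1 - b, a]

variable {a b : F} (hab : a * a + b * b = -1)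

theorem mI_sq : (mI : Matrix (Fin 2) (Fin 2) F) * mI = -1 := by
  rw [mI]; ext i j; fin_cases i <;> fin_cases j <;> simp [Matrix.mul_apply, Fin.sum_univ_two]

include hab in
theorem mJ_sq : mJ a b * mJ a b = -1 := by
  rw [mJ]; ext i j
  fin_cases i <;> fin_cases j <;> simp [Matrix.mul_apply, Fin.sum_univ_two] <;>
    first | ring1 | linear_combination hab

theorem mI_mJ : mI * mJ a b = mK a b := by
  rw [mI, mJ, mK]; ext i j; fin_cases i <;> fin_cases j <;> simp [Matrix.mul_apply, Fin.sum_univ_two]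

theorem mJ_mI : mJ a b * mI = -mK a b := by
  rw [mI, mJ, mK]; ext i j; fin_cases i <;> fin_cases j <;> simp [Matrix.mul_apply, Fin.sum_univ_two]

include hab in
theorem mD_mI : mD a b * mI = mJ a b * mD a b := by
  rw [mI, mJ, mD]; ext i j
  fin_cases i <;> fin_cases j <;> simp [Matrix.mul_apply, Fin.sum_univ_two] <;>
    first | ring1 | linear_combination hab | linear_combination -hab

include hab in
theorem mD_mJ : mD a b * mJ a b = mK a b * mD a b := by
  rw [mJ, mK, mD]; ext i j
  fin_cases i <;> fin_cases j <;> simp [Matrix.mul_apply, Fin.sum_univ_two] <;>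
    first | ring1 | linear_combination hab | linear_combination -hab |
      linear_combination 2 * hab | linear_combination -2 * hab

include hab in
theorem mD_det : (mD a b).det = 4 := by
  rw [mD, Matrix.det_fin_two_of]; linear_combination -2 * hab

include hab in
theorem mE_det : (mE a b).det = 2 := by
  rw [mE, Matrix.det_fin_two_of]; linear_combination -hab

include hab in
theorem mE_mI : mE a b * mI = -(mJ a b * mE a b) := by
  rw [mI, mJ, mE]; ext i j
  fin_cases i <;> fin_cases j <;> simp [Matrix.mul_apply, Fin.sum_univ_two] <;>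
    first | ring1 | linear_combination hab | linear_combination -hab

include hab in
theorem mE_mJ : mE a b * mJ a b = -(mI * mE a b) := by
  rw [mI, mJ, mE]; ext i j
  fin_cases i <;> fin_cases j <;> simp [Matrix.mul_apply, Fin.sum_univ_two] <;>
    first | ring1 | linear_combination hab | linear_combination -hab

include hab in
theorem mD_mE_mD : mD a b * (mE a b * mD a b) = (4 : F) • mE a b := by
  rw [mE, mD]; ext i j
  fin_cases i <;> fin_cases j <;> simp [Matrix.mul_apply, Fin.sum_univ_two] <;>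
    first
      | linear_combination (2 * a) * hab | linear_combination (-2 * a) * hab
      | linear_combination (2 * b - 2) * hab | linear_combination (-2 * b + 2) * hab
      | linear_combination (2 * b + 2) * hab | linear_combination (-2 * b - 2) * hab
      | linear_combination (2 * a - 4) * hab | linear_combination (-2 * a + 4) * hab
      | linear_combination (2 * a + 4) * hab | linear_combination (-2 * a - 4) * hab

include hab in
/-- A matrix commuting with `I` and `J` is scalar. -/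
theorem scalar_of_commute (h2 : (2 : F) ≠ 0) (M : Matrix (Fin 2) (Fin 2) F) (hI : M * mI = mI * M)
    (hJ : M * mJ a b = mJ a b * M) : M = M 0 0 • 1 := by
  have e1 := congrFun (congrFun hI 0) 0
  have e2 := congrFun (congrFun hI 0) 1
  have e3 := congrFun (congrFun hJ 0) 1
  have e4 := congrFun (congrFun hJ 0) 0
  simp [mI, mJ, Matrix.mul_apply, Fin.sum_univ_two] at e1 e2 e3 e4
  have h01 : M 0 1 = 0 := by
    have ha : (2 * a) * M 0 1 = 0 := by linear_combination -e3 + b * e2
    have hb : (2 * b) * M 0 1 = 0 := by linear_combination e4 - b * e1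
    have : (2 : F) * M 0 1 = 0 := by linear_combination -a * ha - b * hb + (2 * M 0 1) * hab
    exact (mul_eq_zero.mp this).resolve_left h2
  have h10 : M 1 0 = 0 := by linear_combination -e1 - h01
  ext i j
  fin_cases i <;> fin_cases j <;> simp [h01, h10] <;> linear_combination -e2

/-- `I`. -/
def eI : SpecialLinearGroup (Fin 2) F := ⟨mI, by simp [mI, Matrix.det_fin_two_of]⟩

/-- `J`. -/
def eJ : SpecialLinearGroup (Fin 2) F :=
  ⟨mJ a b, by rw [mJ, Matrix.det_fin_two_of]; linear_combination -hab⟩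

/-- The three-cycle. -/
def eD (h2 : (2 : F) ≠ 0) : SpecialLinearGroup (Fin 2) F :=
  ⟨(2 : F)⁻¹ • mD a b, by
    rw [Matrix.det_smul, mD_det hab, Fintype.card_fin]
    field_simp
    norm_num⟩

theorem eI_sq : (eI : SpecialLinearGroup (Fin 2) F) * eI = -1 := Subtype.ext mI_sq

theorem eJ_sq : eJ hab * eJ hab = -1 := Subtype.ext (mJ_sq hab)

theorem eJ_eI : eJ hab * eI = -(eI * eJ hab) := by
  refine Subtype.ext ?_
  show mJ a b * mI = -(mI * mJ a b)
  rw [mJ_mI, mI_mJ]

theorem eD_eI (h2 : (2 : F) ≠ 0) : eD hab h2 * eI = eJ hab * eD hab h2 := by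
  refine Subtype.ext ?_
  show ((2 : F)⁻¹ • mD a b) * mI = mJ a b * ((2 : F)⁻¹ • mD a b)
  rw [Matrix.smul_mul, Matrix.mul_smul, mD_mI hab]

theorem eD_eJ (h2 : (2 : F) ≠ 0) : eD hab h2 * eJ hab = (eI * eJ hab) * eD hab h2 := by
  refine Subtype.ext ?_
  show ((2 : F)⁻¹ • mD a b) * mJ a b = (mI * mJ a b) * ((2 : F)⁻¹ • mD a b)
  rw [Matrix.smul_mul, Matrix.mul_smul, mD_mJ hab, mI_mJ]

theorem eD_cube (h2 : (2 : F) ≠ 0) : eD hab h2 * eD hab h2 * eD hab h2 = 1 := by
  refine Subtype.ext ?_
  show ((2 : F)⁻¹ • mD a b) * ((2 : F)⁻¹ • mD a b) * ((2 : F)⁻¹ • mD a b) = 1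
  simp only [Matrix.smul_mul, Matrix.mul_smul, smul_smul]
  have hq : mD a b * mD a b = (-2 : F) • mD a b - (4 : F) • (1 : Matrix (Fin 2) (Fin 2) F) := by
    rw [mD]; ext i j
    fin_cases i <;> fin_cases j <;> simp [Matrix.mul_apply, Fin.sum_univ_two] <;>
      first | ring1 | linear_combination hab | linear_combination 2 * hab
  have h8 : mD a b * mD a b * mD a b = (8 : F) • (1 : Matrix (Fin 2) (Fin 2) F) := by
    rw [hq, Matrix.sub_mul, Matrix.smul_mul, hq, Matrix.smul_mul, Matrix.one_mul]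
    ext i j
    simp
    ring
  rw [h8, smul_smul]
  have : (2 : F)⁻¹ * ((2 : F)⁻¹ * (2 : F)⁻¹) * 8 = 1 := by field_simp; norm_num
  rw [this, one_smul]

/-- The subgroup generated by `I` and `J`. -/
def q8 : Subgroup (SpecialLinearGroup (Fin 2) F) := Subgroup.closure {eI, eJ hab}

/-- Being one of the eight elements. -/
def IsAxis (x : SpecialLinearGroup (Fin 2) F) : Prop :=
  ∃ y, (y = 1 ∨ y = eI ∨ y = eJ hab ∨ y = eI * eJ hab) ∧ (x = y ∨ x = -y)

theorem isAxis_mul {x : SpecialLinearGroup (Fin 2) F} (hx : IsAxis hab x) :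
    IsAxis hab (eI * x) ∧ IsAxis hab (eJ hab * x) := by
  have key : ∀ u : SpecialLinearGroup (Fin 2) F,
      (∀ y, (y = 1 ∨ y = eI ∨ y = eJ hab ∨ y = eI * eJ hab) → IsAxis hab (u * y)) → IsAxis hab (u * x) := by
    intro u hu
    obtain ⟨y, hy, hxy | hxy⟩ := hx <;> rw [hxy]
    · exact hu y hy
    · obtain ⟨w, hw, hw'⟩ := hu y hy
      refine ⟨w, hw, ?_⟩
      rw [mul_neg]
      rcases hw' with h | h
      · exact Or.inr (by rw [h])
      · exact Or.inl (by rw [h, neg_neg])
  refine ⟨key _ ?_, key _ ?_⟩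
  · rintro y (rfl | rfl | rfl | rfl)
    · exact ⟨eI, by simp, by simp⟩
    · exact ⟨1, by simp, Or.inr eI_sq⟩
    · exact ⟨eI * eJ hab, by simp, by simp⟩
    · exact ⟨eJ hab, by simp, Or.inr (by rw [← mul_assoc, eI_sq, neg_one_mul])⟩
  · rintro y (rfl | rfl | rfl | rfl)
    · exact ⟨eJ hab, by simp, by simp⟩
    · exact ⟨eI * eJ hab, by simp, Or.inr (eJ_eI hab)⟩
    · exact ⟨1, by simp, Or.inr (eJ_sq hab)⟩
    · refine ⟨eI, by simp, Or.inl ?_⟩
      rw [← mul_assoc, eJ_eI, neg_mul, mul_assoc, eJ_sq, mul_neg, neg_neg, mul_one]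

theorem isAxis_of_mem {x : SpecialLinearGroup (Fin 2) F} (hx : x ∈ q8 hab) : IsAxis hab x := by
  have hI : (eI : SpecialLinearGroup (Fin 2) F)⁻¹ = -eI :=
    inv_eq_of_mul_eq_one_right (by rw [mul_neg, eI_sq, neg_neg])
  have hJ : (eJ hab)⁻¹ = -eJ hab :=
    inv_eq_of_mul_eq_one_right (by rw [mul_neg, eJ_sq, neg_neg])
  have hneg : ∀ y, IsAxis hab y → IsAxis hab (-y) := by
    rintro y ⟨w, hw, hyw | hyw⟩ <;> rw [hyw]
    · exact ⟨w, hw, Or.inr rfl⟩
    · exact ⟨w, hw, Or.inl (neg_neg _)⟩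
  induction hx using Subgroup.closure_induction_left with
  | one => exact ⟨1, by simp, Or.inl rfl⟩
  | mul_left g hg y _ ih =>
    rcases hg with rfl | rfl
    · exact (isAxis_mul hab ih).1
    · exact (isAxis_mul hab ih).2
  | inv_mul_cancel g hg y _ ih =>
    rcases hg with rfl | rfl
    · rw [hI, neg_mul]; exact hneg _ (isAxis_mul hab ih).1
    · rw [hJ, neg_mul]; exact hneg _ (isAxis_mul hab ih).2

theorem eK_sq : eI * eJ hab * (eI * eJ hab) = -1 := by
  rw [mul_assoc, ← mul_assoc (eJ hab), eJ_eI, neg_mul, mul_assoc eI (eJ hab), eJ_sq]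
  simp [eI_sq]

theorem neg_one_mem_q8 : -1 ∈ q8 hab := by
  rw [← eI_sq]
  exact mul_mem (Subgroup.subset_closure (by simp)) (Subgroup.subset_closure (by simp))

theorem q8_isPGroup : IsPGroup 2 (q8 hab) := by
  rintro ⟨x, hx⟩
  refine ⟨2, Subtype.ext ?_⟩
  show x ^ (2 ^ 2) = 1
  have h4 : ∀ y : SpecialLinearGroup (Fin 2) F, (y = 1 ∨ y * y = -1) → y ^ (2 ^ 2) = 1 := by
    intro y hy
    rw [show (2 : ℕ) ^ 2 = 2 * 2 from rfl, pow_mul, pow_two, pow_two]
    rcases hy with rfl | h
    · simp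
    · rw [h, neg_mul_neg, one_mul]
  obtain ⟨y, hy, hxy⟩ := isAxis_of_mem hab hx
  have hy' : y ^ (2 ^ 2) = 1 := by
    refine h4 y ?_
    rcases hy with rfl | rfl | rfl | rfl
    · exact Or.inl rfl
    · exact Or.inr eI_sq
    · exact Or.inr (eJ_sq hab)
    · exact Or.inr (eK_sq hab)
  rcases hxy with rfl | rfl
  · exact hy'
  · rw [(show Even ((2 : ℕ) ^ 2) from ⟨2, rfl⟩).neg_pow]
    exact hy'

theorem exists_sylow : ∃ Q : Sylow 2 (SpecialLinearGroup (Fin 2) F),
    q8 hab ≤ (Q : Subgroup (SpecialLinearGroup (Fin 2) F)) :=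
  (q8_isPGroup hab).exists_le_sylow

variable [Fintype F]

/-- An element commuting with `I` and `J` is `±1`. -/
theorem eq_one_or_neg (h2 : (2 : F) ≠ 0) {x : SpecialLinearGroup (Fin 2) F}
    (hI : x * eI = eI * x) (hJ : x * eJ hab = eJ hab * x) : x = 1 ∨ x = -1 := by
  have h := scalar_of_commute hab h2 (x : Matrix (Fin 2) (Fin 2) F)
    (congrArg Subtype.val hI) (congrArg Subtype.val hJ)
  have hd : (x : Matrix (Fin 2) (Fin 2) F).det = 1 := x.2
  rw [h, Matrix.det_smul, Fintype.card_fin, Matrix.det_one, mul_one, sq, mul_self_eq_one_iff] at hd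
  rcases hd with h0 | h0 <;> rw [h0] at h
  · exact Or.inl (Subtype.ext (by rw [h]; simp))
  · exact Or.inr (Subtype.ext (by rw [h]; simp))

theorem neg_one_ne_one (h2 : (2 : F) ≠ 0) : (-1 : SpecialLinearGroup (Fin 2) F) ≠ 1 := by
  intro e
  have := congrFun (congrFun (congrArg Subtype.val e) 0) 0
  simp at this
  exact h2 (by linear_combination -this)

theorem eq_one_of_odd (h2 : (2 : F) ≠ 0) {x : SpecialLinearGroup (Fin 2) F}
    (hx : x = 1 ∨ x = -1) (ho : Odd (orderOf x)) : x = 1 := by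
  rcases hx with rfl | rfl
  · rfl
  · exfalso
    rw [orderOf_eq_prime (p := 2) (by rw [pow_two, neg_mul_neg, one_mul]) (neg_one_ne_one h2)] at ho
    exact absurd ho (by decide)

theorem orderOf_two (h2 : (2 : F) ≠ 0) {x : SpecialLinearGroup (Fin 2) F} (hx : orderOf x = 2) : x = -1 := by
  have hp : x ^ 2 = 1 := by have := pow_orderOf_eq_one x; rwa [hx] at this
  rcases SL2Tori.sq_eq_one_cases h2 hp with h | h
  · have : x = 1 := Subtype.ext h
    rw [this, orderOf_one] at hx
    omega
  · exact Subtype.ext h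

variable (Q : Sylow 2 (SpecialLinearGroup (Fin 2) F))
  (hQ : q8 hab ≤ (Q : Subgroup (SpecialLinearGroup (Fin 2) F)))

include hQ in
theorem exists_iso (h2 : (2 : F) ≠ 0) : ∃ n : ℕ, 1 ≤ n ∧
    Nonempty ((Q : Subgroup (SpecialLinearGroup (Fin 2) F)) ≃* QuaternionGroup (2 ^ n)) := by
  rcases TwoGroups.OneInvolution.isCyclic_or_quaternion Q.isPGroup'
    (fun u v hu hv => Subtype.ext ((orderOf_two h2 (by rw [Subgroup.orderOf_coe, hu])).trans
      (orderOf_two h2 (by rw [Subgroup.orderOf_coe, hv])).symm)) with hc | h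
  · exfalso
    have hc' := (IsCyclic.commGroup (α := (Q : Subgroup (SpecialLinearGroup (Fin 2) F)))).mul_comm
      ⟨eI, hQ (Subgroup.subset_closure (by simp))⟩ ⟨eJ hab, hQ (Subgroup.subset_closure (by simp))⟩
    have e : (eI : SpecialLinearGroup (Fin 2) F) * eJ hab = eJ hab * eI := congrArg Subtype.val hc'
    rw [eJ_eI] at e
    have e2 : (1 : SpecialLinearGroup (Fin 2) F) * (eI * eJ hab) = (-1) * (eI * eJ hab) := by
      rw [one_mul, neg_one_mul]; exact e
    exact neg_one_ne_one h2 (mul_right_cancel e2).symm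
  · exact h

include hQ in
/-- A Sylow 2-subgroup is generated by square roots of `-1`. -/
theorem le_closure_sqrt (h2 : (2 : F) ≠ 0) : (Q : Subgroup (SpecialLinearGroup (Fin 2) F)) ≤
    Subgroup.closure {x | x ∈ (Q : Subgroup (SpecialLinearGroup (Fin 2) F)) ∧ x * x = -1} := by
  obtain ⟨n, hn, ⟨e⟩⟩ := exists_iso hab Q hQ h2
  have hxa : ∀ i, ((e.symm (QuaternionGroup.xa i) : (Q : Subgroup (SpecialLinearGroup (Fin 2) F))) :
      SpecialLinearGroup (Fin 2) F) ∈
      Subgroup.closure {x | x ∈ (Q : Subgroup (SpecialLinearGroup (Fin 2) F)) ∧ x * x = -1} := by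
    intro i
    refine Subgroup.subset_closure ⟨Subtype.prop _, orderOf_two h2 ?_⟩
    rw [← Subgroup.coe_mul, Subgroup.orderOf_coe, ← map_mul, MulEquiv.orderOf_eq, QuaternionGroup.xa_mul_xa,
      add_sub_cancel_right]
    have : NeZero (2 ^ n) := ⟨(pow_pos two_pos n).ne'⟩
    have : NeZero (2 * 2 ^ n) := ⟨by positivity⟩
    rw [QuaternionGroup.orderOf_a, ZMod.val_natCast, Nat.mod_eq_of_lt (lt_two_mul_self (pow_pos two_pos n)),
      Nat.gcd_eq_right (Dvd.intro_left 2 rfl), Nat.mul_div_cancel _ (pow_pos two_pos n)]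
  intro x hx
  have hxe : x = ((e.symm (e ⟨x, hx⟩) : (Q : Subgroup (SpecialLinearGroup (Fin 2) F))) :
      SpecialLinearGroup (Fin 2) F) := by rw [MulEquiv.symm_apply_apply]
  rw [hxe]
  generalize e ⟨x, hx⟩ = w
  cases w with
  | a i =>
    rw [show QuaternionGroup.a i =
        QuaternionGroup.xa 0 * QuaternionGroup.xa (i - ((2 ^ n : ℕ) : ZMod (2 * 2 ^ n))) by
      rw [QuaternionGroup.xa_mul_xa]; simp, map_mul, Subgroup.coe_mul]
    exact mul_mem (hxa _) (hxa _)
  | xa i => exact hxa i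

include hQ in
/-- An axis is moved to an axis by the normalizer in the small case. -/
theorem eq_q8_of_card (h2 : (2 : F) ≠ 0)
    (h8 : Nat.card (Q : Subgroup (SpecialLinearGroup (Fin 2) F)) = 8) :
    (Q : Subgroup (SpecialLinearGroup (Fin 2) F)) = q8 hab := by
  refine (Subgroup.eq_of_le_of_card_ge hQ ?_).symm
  rw [h8]
  obtain ⟨k, hk⟩ := (q8_isPGroup hab).exists_card_eq
  have hlt : 2 ^ 2 < Nat.card (q8 hab) := by
    let f : Fin 5 → q8 hab := ![1, ⟨-1, neg_one_mem_q8 hab⟩, ⟨eI, Subgroup.subset_closure (by simp)⟩,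
      ⟨-eI, by rw [← neg_one_mul]; exact mul_mem (neg_one_mem_q8 hab) (Subgroup.subset_closure (by simp))⟩,
      ⟨eJ hab, Subgroup.subset_closure (by simp)⟩]
    have hne := neg_one_ne_one (F := F) h2
    have hI1 : ∀ s : SpecialLinearGroup (Fin 2) F, (s = 1 ∨ s = -1) → (eI : SpecialLinearGroup (Fin 2) F) ≠ s := by
      intro s hs e
      have h := eI_sq (F := F)
      rcases hs with rfl | rfl <;> rw [e] at h
      · exact hne (by simpa using h.symm)
      · exact hne (by simpa using h.symm)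
    have hJ1 : ∀ s : SpecialLinearGroup (Fin 2) F, (s = 1 ∨ s = -1) → eJ hab ≠ s := by
      intro s hs e
      have h := eJ_sq hab
      rcases hs with rfl | rfl <;> rw [e] at h
      · exact hne (by simpa using h.symm)
      · exact hne (by simpa using h.symm)
    have hIJ : ∀ s : SpecialLinearGroup (Fin 2) F, (s = eI ∨ s = -eI) → eJ hab ≠ s := by
      intro s hs e
      have h := eJ_eI hab
      rcases hs with rfl | rfl <;> rw [e] at h <;> rw [eq_comm] at h
      · rw [eI_sq, neg_neg] at h; exact hne h.symm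
      · rw [neg_mul, mul_neg, eI_sq, neg_neg, neg_neg] at h; exact hne h
    have hinj : Function.Injective f := by
      intro i j hij
      have := congrArg Subtype.val hij
      have hII : (eI : SpecialLinearGroup (Fin 2) F) ≠ -eI := fun e => by
        have e' : (1 : SpecialLinearGroup (Fin 2) F) * eI = (-1) * eI := by rw [one_mul, neg_one_mul]; exact e
        exact hne (mul_right_cancel e').symm
      fin_cases i <;> fin_cases j <;> simp [f] at this ⊢ <;>
        first
          | exact hne this | exact hne this.symm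
          | exact hI1 _ (Or.inl rfl) this | exact hI1 _ (Or.inl rfl) this.symm
          | exact hI1 _ (Or.inr rfl) this | exact hI1 _ (Or.inr rfl) this.symm
          | exact hI1 _ (Or.inl rfl) (neg_eq_iff_eq_neg.mpr this.symm)
          | exact hI1 _ (Or.inr rfl) (neg_eq_iff_eq_neg.mp this.symm)
          | exact hI1 _ (Or.inr rfl) (neg_eq_iff_eq_neg.mp this)
          | exact hJ1 _ (Or.inl rfl) this | exact hJ1 _ (Or.inl rfl) this.symm
          | exact hJ1 _ (Or.inr rfl) this | exact hJ1 _ (Or.inr rfl) this.symm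
          | exact hII this | exact hII this.symm
          | exact hIJ _ (Or.inl rfl) this | exact hIJ _ (Or.inl rfl) this.symm
          | exact hIJ _ (Or.inr rfl) this | exact hIJ _ (Or.inr rfl) this.symm
    have := Nat.card_le_card_of_injective f hinj
    rw [Nat.card_fin] at this
    omega
  rw [hk] at hlt ⊢
  calc (8 : ℕ) = 2 ^ 3 := rfl
    _ ≤ 2 ^ k := Nat.pow_le_pow_right two_pos ((Nat.pow_lt_pow_iff_right (by norm_num)).mp hlt)

include hQ in
/-- Elements of odd order normalizing a Sylow 2-subgroup of order above 8 are trivial. -/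
theorem eq_one_of_normalizes (h2 : (2 : F) ≠ 0)
    (h8 : Nat.card (Q : Subgroup (SpecialLinearGroup (Fin 2) F)) ≠ 8) {x : SpecialLinearGroup (Fin 2) F}
    (hx : x ∈ Subgroup.normalizer ((Q : Subgroup (SpecialLinearGroup (Fin 2) F)) : Set (SpecialLinearGroup (Fin 2) F)))
    (ho : Odd (orderOf x)) : x = 1 := by
  obtain ⟨n, hn, ⟨e⟩⟩ := exists_iso hab Q hQ h2
  have hn2 : 2 ≤ n := by
    by_contra h
    obtain rfl : n = 1 := by omega
    refine h8 ?_
    rw [Nat.card_congr e.toEquiv, Nat.card_eq_fintype_card, QuaternionGroup.card]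
    norm_num
  have hp : IsPGroup 2 (MulAut (Q : Subgroup (SpecialLinearGroup (Fin 2) F))) :=
    (Fusion.isPGroup_mulAut_quaternion n hn2).of_equiv (MulAut.congr e.symm)
  set φ := (Q : Subgroup (SpecialLinearGroup (Fin 2) F)).normalizerMonoidHom ⟨x, hx⟩ with hφ
  have h1 : orderOf φ ∣ orderOf x := by
    rw [← Subgroup.orderOf_mk x hx]; exact orderOf_map_dvd _ _
  obtain ⟨k, hk⟩ := IsPGroup.iff_orderOf.mp hp φ
  have hφ1 : φ = 1 := by
    rw [← orderOf_eq_one_iff, hk]
    rcases Nat.eq_zero_or_pos k with rfl | hk0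
    · rfl
    · exfalso
      rw [hk] at h1
      exact Nat.not_even_iff_odd.mpr ho ((even_iff_two_dvd).mpr ((dvd_pow_self 2 hk0.ne').trans h1))
  have hcomm : ∀ u ∈ (Q : Subgroup (SpecialLinearGroup (Fin 2) F)), x * u = u * x := by
    intro u hu
    have h := congrArg Subtype.val (DFunLike.congr_fun hφ1 ⟨u, hu⟩)
    rw [← mul_inv_eq_iff_eq_mul]
    exact h
  exact eq_one_of_odd h2 (eq_one_or_neg hab h2 (hcomm _ (hQ (Subgroup.subset_closure (by simp))))
    (hcomm _ (hQ (Subgroup.subset_closure (by simp))))) ho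

theorem eD_normalizes (h2 : (2 : F) ≠ 0) : eD hab h2 ∈ Subgroup.normalizer (q8 hab : Set (SpecialLinearGroup (Fin 2) F)) := by
  refine Subgroup.mem_normalizer_fintype fun u hu => ?_
  have hle : (q8 hab).map (MulAut.conj (eD hab h2)).toMonoidHom ≤ q8 hab := by
    rw [q8, MonoidHom.map_closure, Subgroup.closure_le]
    rintro _ ⟨y, hy, rfl⟩
    rcases hy with rfl | rfl
    · simp only [MulEquiv.coe_toMonoidHom, MulAut.conj_apply, eD_eI, mul_inv_cancel_right]
      exact Subgroup.subset_closure (by simp)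
    · simp only [MulEquiv.coe_toMonoidHom, MulAut.conj_apply, eD_eJ, mul_inv_cancel_right]
      exact mul_mem (Subgroup.subset_closure (by simp)) (Subgroup.subset_closure (by simp))
  exact hle ⟨u, hu, rfl⟩

include hQ in
/-- In the small case the normalizer of `Q` is `Q⟨d⟩` as far as odd order elements are concerned. -/
theorem exists_pow_of_normalizes (h2 : (2 : F) ≠ 0)
    (h8 : Nat.card (Q : Subgroup (SpecialLinearGroup (Fin 2) F)) = 8) {x : SpecialLinearGroup (Fin 2) F}
    (hx : x ∈ Subgroup.normalizer ((Q : Subgroup (SpecialLinearGroup (Fin 2) F)) : Set (SpecialLinearGroup (Fin 2) F))) :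
    ∃ k : ℕ, x * (eD hab h2 ^ k)⁻¹ ∈ (Q : Subgroup (SpecialLinearGroup (Fin 2) F)) := by
  have hQ' := eq_q8_of_card hab Q hQ h2 h8
  rw [hQ'] at hx
  set d := eD hab h2 with hd
  have hIm : (eI : SpecialLinearGroup (Fin 2) F) ∈ q8 hab := Subgroup.subset_closure (by simp)
  have hJm : eJ hab ∈ q8 hab := Subgroup.subset_closure (by simp)
  have hconj : ∀ {y : SpecialLinearGroup (Fin 2) F}, y ∈ Subgroup.normalizer (q8 hab : Set _) → ∀ v ∈ q8 hab,
      v ≠ 1 → v ≠ -1 → ∃ w, (w = eI ∨ w = eJ hab ∨ w = eI * eJ hab) ∧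
        (y * v * y⁻¹ = w ∨ y * v * y⁻¹ = -w) := by
    intro y hy v hv hv1 hv2
    obtain ⟨w, hw, hw'⟩ := isAxis_of_mem hab ((Subgroup.mem_normalizer_iff.mp hy v).mp hv)
    rcases hw with rfl | hw
    · exfalso
      rcases hw' with h | h
      · exact hv1 (by simpa [mul_assoc] using congrArg (fun t => y⁻¹ * t * y) h)
      · exact hv2 (by simpa [mul_assoc] using congrArg (fun t => y⁻¹ * t * y) h)
    · exact ⟨w, hw, hw'⟩
  have hne := neg_one_ne_one (F := F) h2
  have hIne : (eI : SpecialLinearGroup (Fin 2) F) ≠ 1 ∧ (eI : SpecialLinearGroup (Fin 2) F) ≠ -1 := by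
    constructor <;> intro e <;> have h := eI_sq (F := F) <;> rw [e] at h
    · exact hne (by simpa using h.symm)
    · exact hne (by simpa using h.symm)
  have hJne : eJ hab ≠ 1 ∧ eJ hab ≠ -1 := by
    constructor <;> intro e <;> have h := eJ_sq hab <;> rw [e] at h
    · exact hne (by simpa using h.symm)
    · exact hne (by simpa using h.symm)
  have hdN := eD_normalizes hab h2
  -- an element fixing the axis of `I`
  have hfix : ∀ y ∈ Subgroup.normalizer (q8 hab : Set (SpecialLinearGroup (Fin 2) F)),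
      (y * eI * y⁻¹ = eI ∨ y * eI * y⁻¹ = -eI) → y ∈ q8 hab := by
    intro y hy hyI
    have haxis : ∀ y : SpecialLinearGroup (Fin 2) F, (y * eI * y⁻¹ = eI ∨ y * eI * y⁻¹ = -eI) →
        (y * eJ hab * y⁻¹ = eJ hab ∨ y * eJ hab * y⁻¹ = -eJ hab) → y ∈ q8 hab := by
      intro y h h'
      have c1 : ∀ {u v w : SpecialLinearGroup (Fin 2) F}, u * v * u⁻¹ = w → u * v = w * u :=
        fun h => mul_inv_eq_iff_eq_mul.mp h
      have hKm := mul_mem hIm hJm
      have hnm : ∀ z, z ∈ q8 hab → ∀ r, r ∈ q8 hab → y * r = z → y ∈ q8 hab := fun z hz r hr e => by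
        rw [← mul_inv_cancel_right y r, e]; exact mul_mem hz (inv_mem hr)
      have hmem : ∀ {w : SpecialLinearGroup (Fin 2) F}, (w = 1 ∨ w = -1) → w ∈ q8 hab := fun hw => by
        rcases hw with rfl | rfl
        · exact one_mem _
        · exact neg_one_mem_q8 hab
      have hIJ : (eI : SpecialLinearGroup (Fin 2) F) * eJ hab = -(eJ hab * eI) := by rw [eJ_eI, neg_neg]
      have comb : ∀ {u v r w e : SpecialLinearGroup (Fin 2) F}, u * v = -(w * u) → r * v = -(v * r) →
          e = w * u * r → u * r * v = e := by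
        intro u v r w e h1 h2' h3
        rw [h3, mul_assoc, h2', mul_neg, ← mul_assoc, h1, neg_mul, neg_neg]
      have comb' : ∀ {u v r w : SpecialLinearGroup (Fin 2) F}, u * v = w * u → r * v = v * r →
          u * r * v = w * (u * r) := by
        intro u v r w h1 h2'
        rw [mul_assoc, h2', ← mul_assoc, h1, mul_assoc]
      have hKI : eI * eJ hab * eI = -(eI * (eI * eJ hab)) := by
        rw [mul_assoc, eJ_eI, mul_neg]
      have hKJ : eI * eJ hab * eJ hab = -(eJ hab * (eI * eJ hab)) := by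
        rw [← mul_assoc (eJ hab), eJ_eI, neg_mul, neg_neg]
      rcases h with h | h <;> rcases h' with h' | h'
      · exact hmem (eq_one_or_neg hab h2 (c1 h) (c1 h'))
      · exact hnm _ (hmem (eq_one_or_neg hab h2 (x := y * eI) (comb' (c1 h) rfl)
          (comb ((c1 h').trans (neg_mul _ _)) hIJ (mul_assoc _ _ _).symm))) _ hIm rfl
      · exact hnm _ (hmem (eq_one_or_neg hab h2 (x := y * eJ hab)
          (comb ((c1 h).trans (neg_mul _ _)) (eJ_eI hab) (mul_assoc _ _ _).symm) (comb' (c1 h') rfl))) _ hJm rfl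
      · exact hnm _ (hmem (eq_one_or_neg hab h2 (x := y * (eI * eJ hab))
          (comb ((c1 h).trans (neg_mul _ _)) hKI (mul_assoc _ _ _).symm)
          (comb ((c1 h').trans (neg_mul _ _)) hKJ (mul_assoc _ _ _).symm))) _ hKm rfl
    have hsq : y * y ∈ q8 hab := by
      have hyy : ∀ v, y * y * v * (y * y)⁻¹ = y * (y * v * y⁻¹) * y⁻¹ := fun v => by group
      refine haxis _ ?_ ?_
      · rcases hyI with h | h
        · left; rw [hyy, h, h]
        · left; rw [hyy, h, mul_neg, neg_mul, h, neg_neg]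
      · obtain ⟨w, hw, hw'⟩ := hconj hy _ hJm hJne.1 hJne.2
        rcases hw with rfl | rfl | rfl
        · exfalso
          obtain ⟨s, hs, hs'⟩ : ∃ s, (s = eI ∨ s = -eI) ∧ y * eJ hab * y⁻¹ = y * s * y⁻¹ := by
            rcases hw' with e | e <;> rcases hyI with f | f
            · exact ⟨eI, Or.inl rfl, by rw [e, f]⟩
            · exact ⟨-eI, Or.inr rfl, by rw [e, mul_neg, neg_mul, f, neg_neg]⟩
            · exact ⟨-eI, Or.inr rfl, by rw [e, mul_neg, neg_mul, f]⟩
            · exact ⟨eI, Or.inl rfl, by rw [e, f]⟩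
          have hJs : eJ hab = s := mul_left_cancel (mul_right_cancel hs')
          have h := eJ_eI hab
          rcases hs with rfl | rfl <;> rw [hJs] at h
          · rw [eI_sq, neg_neg] at h; exact hne h
          · rw [neg_mul, mul_neg, eI_sq, neg_neg] at h; exact hne h.symm
        · rcases hw' with e | e
          · left; rw [hyy, e, e]
          · left; rw [hyy, e, mul_neg, neg_mul, e, neg_neg]
        · have hK : y * (eI * eJ hab) * y⁻¹ = (y * eI * y⁻¹) * (y * eJ hab * y⁻¹) := by group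
          have hII : (eI : SpecialLinearGroup (Fin 2) F) * (eI * eJ hab) = -eJ hab := by
            rw [← mul_assoc, eI_sq, neg_one_mul]
          rw [hyy]
          rcases hw' with e | e <;> rcases hyI with f | f
          · right; rw [e, hK, e, f, hII]
          · left; rw [e, hK, e, f, neg_mul, hII, neg_neg]
          · right; rw [e, mul_neg, neg_mul, hK, e, f, mul_neg, hII, neg_neg]
          · left; rw [e, mul_neg, neg_mul, hK, e, f, neg_mul_neg, hII]; try rw [neg_neg]
    -- so `y` is a 2-element normalizing the Sylow subgroup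
    have hy8 : y ^ (2 ^ 3) = 1 := by
      have h4 : (⟨y * y, hsq⟩ : q8 hab) ^ (2 ^ 2) = 1 := by
        obtain ⟨k, hk⟩ := (q8_isPGroup hab).exists_card_eq
        obtain ⟨w, hw, hww⟩ := isAxis_of_mem hab hsq
        refine Subtype.ext ?_
        show (y * y) ^ (2 ^ 2) = 1
        have hw4 : w ^ (2 ^ 2) = 1 := by
          rcases hw with rfl | rfl | rfl | rfl
          · exact one_pow _
          all_goals rw [show (2 : ℕ) ^ 2 = 2 * 2 from rfl, pow_mul, pow_two, pow_two]
          · rw [eI_sq, neg_mul_neg, one_mul]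
          · rw [eJ_sq, neg_mul_neg, one_mul]
          · rw [eK_sq, neg_mul_neg, one_mul]
        rcases hww with e | e <;> rw [e]
        · exact hw4
        · rw [(show Even ((2 : ℕ) ^ 2) from ⟨2, rfl⟩).neg_pow]
          exact hw4
      rw [show (2 : ℕ) ^ 3 = 2 * 2 ^ 2 from rfl, pow_mul, pow_two y]
      exact congrArg Subtype.val h4
    have : Fact (Nat.Prime 2) := ⟨Nat.prime_two⟩
    obtain ⟨j, -, hj⟩ := (Nat.dvd_prime_pow Nat.prime_two).mp (orderOf_dvd_of_pow_eq_one hy8)
    have hW : IsPGroup 2 (Subgroup.zpowers y) := IsPGroup.of_card (n := j) (by rw [Nat.card_zpowers, hj])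
    have hsup := hW.to_sup_of_normal_right' Q.isPGroup'
      (Subgroup.zpowers_le.2 (by rw [hQ']; exact hy))
    have := Q.is_maximal' hsup le_sup_right
    rw [← hQ']
    exact this ▸ Subgroup.mem_sup_left (Subgroup.mem_zpowers y)
  rw [hQ']
  obtain ⟨w, hw, hw'⟩ := hconj hx _ hIm hIne.1 hIne.2
  obtain ⟨k, hk⟩ : ∃ k : ℕ, d ^ k * eI * (d ^ k)⁻¹ = w := by
    rcases hw with rfl | rfl | rfl
    · exact ⟨0, by simp⟩
    · exact ⟨1, by rw [pow_one, eD_eI, mul_inv_cancel_right]⟩
    · refine ⟨2, ?_⟩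
      rw [pow_two, mul_inv_eq_iff_eq_mul, mul_assoc d d, hd, eD_eI, ← mul_assoc (eD hab h2) (eJ hab), eD_eJ,
        mul_assoc (eI * eJ hab)]
  have hin : (d ^ k)⁻¹ * x ∈ q8 hab := by
    refine hfix _ (mul_mem (inv_mem (pow_mem hdN k)) hx) ?_
    have e : (d ^ k)⁻¹ * x * eI * ((d ^ k)⁻¹ * x)⁻¹ = (d ^ k)⁻¹ * (x * eI * x⁻¹) * d ^ k := by group
    rw [e]
    rcases hw' with h | h <;> rw [h, ← hk]
    · left; group
    · right; rw [mul_neg, neg_mul]; congr 1; group
  refine ⟨k, ?_⟩
  have := (Subgroup.mem_normalizer_iff.mp (pow_mem hdN k) _).mp hin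
  rwa [mul_inv_cancel_left] at this

end CfsgLib.Fusion48.Q8
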