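import Cfsg.Agent.Lib.Fusion48.TwoFrame
import Cfsg.Agent.Lib.Fusion48.SLTwoSylow
import Cfsg.Agent.Lib.Fusion48.KroneckerSpFour
import Cfsg.Agent.Lib.Sp.InvolutionClasses

/-!
The 2-fusion system of `PSp(4,q)`, `q` odd, is simple.

The Sylow subgroup is the image of `(Q × Q):2` with `Q` a Sylow 2-subgroup of `SL(2,q)`.  For `|Q| = 8` the
three-cycle `(d, d)` normalizes it; it lies in the subgroup generated by the 2-elements normalizing
`R = Q ∘ D₈`, which is normal in the Sylow subgroup and self-centralizing in the group.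
-/

set_option autoImplicit false
set_option linter.unusedSectionVars false

open Matrix

namespace CfsgLib.Fusion48.SpFour

open CfsgLib.SympSylow CfsgLib.Fusion48.Q8

variable {F : Type*} [Field F] [Fintype F]

local notation "SL2" => Matrix.SpecialLinearGroup (Fin 2) F

/-- The map from the monomial group to `PSp(4)`. -/
def phi : Mon SL2 (Fin 2) →* Cfsg.PSp 2 F :=
  (QuotientGroup.mk' (Subgroup.center (Matrix.symplecticGroup (Fin 2) F))).comp monSp

theorem phi_apply (w : Mon SL2 (Fin 2)) : phi w = QuotientGroup.mk (monSp w) := rfl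

theorem monMat_neg : monMat (di (-1 : SL2) (-1)) = -1 := by
  rw [monMat_const, Matrix.SpecialLinearGroup.coe_neg, kr_neg_left, Matrix.SpecialLinearGroup.coe_one, kr_one]

theorem mk_eq_iff {A B : Matrix.symplecticGroup (Fin 2) F} :
    (QuotientGroup.mk A : Cfsg.PSp 2 F) = QuotientGroup.mk B ↔ B = A ∨ B = monSp (di (-1) (-1)) * A := by
  rw [QuotientGroup.eq]
  constructor
  · intro h
    have hcomm := Subgroup.mem_center_iff.mp h
    have hB : B = (A⁻¹ * B) * A := by rw [← hcomm A, mul_inv_cancel_left]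
    rcases Sp.mem_center_iff.mp h with e | e
    · left
      rw [hB, show A⁻¹ * B = 1 from Subtype.ext e, one_mul]
    · right
      rw [hB, show A⁻¹ * B = monSp (di (-1) (-1)) from Subtype.ext (e.trans monMat_neg.symm)]
  · have hn : monSp (di (-1 : SL2) (-1)) ∈ Subgroup.center (Matrix.symplecticGroup (Fin 2) F) :=
      Sp.mem_center_iff.mpr (Or.inr monMat_neg)
    rintro (rfl | rfl)
    · simp
    · rw [← Subgroup.mem_center_iff.mp hn A, inv_mul_cancel_left]
      exact hn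

theorem phi_eq_iff {w w' : Mon SL2 (Fin 2)} : phi w = phi w' ↔ w' = w ∨ w' = di (-1) (-1) * w := by
  rw [phi_apply, phi_apply, mk_eq_iff, monSp_injective.eq_iff, ← map_mul, monSp_injective.eq_iff]

theorem phi_neg (x y : SL2) : phi (di (-x) (-y)) = phi (di x y) := by
  rw [eq_comm, phi_eq_iff, di_mul]
  exact Or.inr (by rw [neg_one_mul, neg_one_mul])

theorem phi_eq_one {w : Mon SL2 (Fin 2)} (h : phi w = 1) : w = 1 ∨ w = di (-1) (-1) := by
  rw [← map_one phi, eq_comm, phi_eq_iff, mul_one] at h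
  exact h

theorem phi_sw_sq : phi (sw : Mon SL2 (Fin 2)) * phi sw = 1 := by rw [← map_mul, sw_sq, map_one]

theorem phi_sw_di (x y : SL2) : phi sw * phi (di x y) * (phi sw)⁻¹ = phi (di y x) := by
  rw [← map_mul, sw_di, map_mul, mul_inv_cancel_right]

theorem normalizer_of_gens {G : Type*} [Group G] [Finite G] {s : Set G} {g : G}
    (h : ∀ x ∈ s, g * x * g⁻¹ ∈ Subgroup.closure s) :
    g ∈ Subgroup.normalizer (Subgroup.closure s : Set G) := by
  refine Subgroup.mem_normalizer_fintype fun u hu => ?_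
  have hle : (Subgroup.closure s).map (MulAut.conj g).toMonoidHom ≤ Subgroup.closure s := by
    rw [MonoidHom.map_closure, Subgroup.closure_le]
    rintro _ ⟨x, hx, rfl⟩
    exact h x hx
  exact hle ⟨u, hu, rfl⟩

/-- Products with an element commuting up to sign. -/
theorem fix_sign {R : Type*} [Ring R] {M H G : R} (hM : M * G = G * M ∨ M * G = -(G * M))
    (hH : H * G = -(G * H)) : ∃ E : R, (E = 1 ∨ E = H) ∧ M * E * G = G * (M * E) := by
  rcases hM with h | h
  · exact ⟨1, Or.inl rfl, by rw [mul_one, h]⟩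
  · exact ⟨H, Or.inr rfl, by rw [mul_assoc, hH, mul_neg, ← mul_assoc, h, neg_mul, neg_neg, mul_assoc]⟩

theorem keep_sign {R : Type*} [Ring R] {M H G E : R} (hM : M * G = G * M ∨ M * G = -(G * M))
    (hE : E = 1 ∨ E = H) (hH : H * G = G * H) :
    M * E * G = G * (M * E) ∨ M * E * G = -(G * (M * E)) := by
  rcases hE with rfl | rfl
  · simpa using hM
  · rcases hM with h | h
    · left; rw [mul_assoc, hH, ← mul_assoc, h, mul_assoc]
    · right; rw [mul_assoc, hH, ← mul_assoc, h, neg_mul, mul_assoc]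

theorem keep_comm {R : Type*} [Ring R] {M H G E : R} (hM : M * G = G * M)
    (hE : E = 1 ∨ E = H) (hH : H * G = G * H) : M * E * G = G * (M * E) := by
  rcases hE with rfl | rfl
  · simpa using hM
  · rw [mul_assoc, hH, ← mul_assoc, hM, mul_assoc]

section Model

variable {a b : F} (hab : a * a + b * b = -1) (h2 : (2 : F) ≠ 0)

/-- The four generators of `R`. -/
def rGens : Set (Cfsg.PSp 2 F) :=
  {phi (di eI eI), phi (di (eJ hab) (eJ hab)), phi (di 1 (-1)), phi sw}

/-- `R = Q ∘ D₈` modulo the centre. -/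
def rSub : Subgroup (Cfsg.PSp 2 F) := Subgroup.closure (rGens hab)

theorem rGens_mem {x : Cfsg.PSp 2 F} (hx : x ∈ rGens hab) : x ∈ rSub hab := Subgroup.subset_closure hx

/-- `(d, d)`. -/
def hD : Cfsg.PSp 2 F := phi (di (eD hab h2) (eD hab h2))

/-- The inverting element. -/
def wT : Cfsg.PSp 2 F :=
  QuotientGroup.mk (krSp (mE a b) ((2 : F)⁻¹ • mF) (2 : F)⁻¹
    (by rw [transpose_smul, Matrix.smul_mul, Matrix.mul_smul, mF_mul_transpose, smul_smul, smul_smul]
        congr 1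
        field_simp)
    (by rw [mE_det hab]; field_simp))

theorem monMat_mul (v w : Mon SL2 (Fin 2)) : monMat (v * w) = monMat v * monMat w :=
  congrArg Subtype.val (monSp.map_mul v w)

theorem wT_conj {g g' : Mon SL2 (Fin 2)}
    (h : kr (mE a b) mF * monMat g = monMat g' * kr (mE a b) mF ∨
      kr (mE a b) mF * monMat g = -(monMat g' * kr (mE a b) mF)) :
    wT hab h2 * phi g * (wT hab h2)⁻¹ = phi g' := by
  rw [mul_inv_eq_iff_eq_mul, phi_apply, phi_apply, wT, ← QuotientGroup.mk_mul, ← QuotientGroup.mk_mul, mk_eq_iff]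
  rcases h with h | h
  · left
    refine Subtype.ext ?_
    show monMat g' * kr (mE a b) ((2 : F)⁻¹ • mF) = kr (mE a b) ((2 : F)⁻¹ • mF) * monMat g
    rw [kr_smul_right, Matrix.smul_mul, Matrix.mul_smul, h]
  · right
    refine Subtype.ext ?_
    show monMat g' * kr (mE a b) ((2 : F)⁻¹ • mF) =
      monMat (di (-1) (-1)) * (kr (mE a b) ((2 : F)⁻¹ • mF) * monMat g)
    rw [monMat_neg, neg_one_mul, kr_smul_right, Matrix.smul_mul, Matrix.mul_smul, h, smul_neg, neg_neg]

theorem wT_sq : wT hab h2 * wT hab h2 = 1 := by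
  rw [wT, ← QuotientGroup.mk_mul, ← QuotientGroup.mk_one, mk_eq_iff]
  right
  refine Subtype.ext ?_
  show (1 : Matrix (Fin 2 ⊕ Fin 2) (Fin 2 ⊕ Fin 2) F) =
    monMat (di (-1) (-1)) * (kr (mE a b) ((2 : F)⁻¹ • mF) * kr (mE a b) ((2 : F)⁻¹ • mF))
  have hE : mE a b * mE a b = (-2 : F) • (1 : Matrix (Fin 2) (Fin 2) F) := by
    rw [mE]; ext i j
    fin_cases i <;> fin_cases j <;> simp [Matrix.mul_apply, Fin.sum_univ_two] <;>
      first | ring1 | linear_combination hab
  rw [monMat_neg, neg_one_mul, kr_mul, hE, Matrix.smul_mul, Matrix.mul_smul, mF_sq, smul_smul, smul_smul,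
    kr_smul_left, kr_smul_right, kr_one, smul_smul]
  rw [show (-2 : F) * ((2 : F)⁻¹ * (2 : F)⁻¹ * 2) = -1 by field_simp, neg_smul, one_smul, neg_neg]

theorem hD_cube : hD hab h2 * hD hab h2 * hD hab h2 = 1 := by
  rw [hD, ← map_mul, ← map_mul, di_mul, di_mul, eD_cube, di_one, map_one]

theorem wT_hD : hD hab h2 * (wT hab h2 * hD hab h2) = wT hab h2 := by
  rw [hD, wT, phi_apply, ← QuotientGroup.mk_mul, ← QuotientGroup.mk_mul]
  congr 1
  refine Subtype.ext ?_
  show monMat (di (eD hab h2) (eD hab h2)) *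
    (kr (mE a b) ((2 : F)⁻¹ • mF) * monMat (di (eD hab h2) (eD hab h2))) = kr (mE a b) ((2 : F)⁻¹ • mF)
  rw [monMat_const, kr_mul, kr_mul, Matrix.mul_one, Matrix.one_mul]
  congr 1
  show ((2 : F)⁻¹ • mD a b) * (mE a b * ((2 : F)⁻¹ • mD a b)) = mE a b
  rw [Matrix.mul_smul, Matrix.smul_mul, Matrix.mul_smul, mD_mE_mD hab, smul_smul, smul_smul]
  rw [show (2 : F)⁻¹ * (2 : F)⁻¹ * 4 = 1 by field_simp; norm_num, one_smul]

theorem phi_single_mem_normalizer {u : SL2} (hu : u ∈ q8 hab) :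
    phi (di u 1) ∈ Subgroup.normalizer (rSub hab : Set (Cfsg.PSp 2 F)) := by
  let f : SL2 →* Cfsg.PSp 2 F :=
    { toFun := fun u => phi (di u 1)
      map_one' := by rw [di_one, map_one]
      map_mul' := fun u v => by rw [← map_mul, di_mul, one_mul] }
  suffices h : q8 hab ≤ (Subgroup.normalizer (rSub hab : Set (Cfsg.PSp 2 F))).comap f from h hu
  rw [q8, Subgroup.closure_le]
  have hIneg : (eI : SL2)⁻¹ = -eI := inv_eq_of_mul_eq_one_right (by rw [mul_neg, eI_sq, neg_neg])
  have hJneg : (eJ hab)⁻¹ = -eJ hab := inv_eq_of_mul_eq_one_right (by rw [mul_neg, eJ_sq, neg_neg])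
  have hzero : ∀ x : SL2, ∀ v ∈ rGens hab, x * x = -1 →
      v = phi (di 1 (-1)) → phi (di x 1) * v * (phi (di x 1))⁻¹ ∈ rSub hab := by
    rintro x v hv - rfl
    rw [← map_inv, ← map_mul, ← map_mul, di_inv, di_mul, di_mul, mul_one, mul_inv_cancel, one_mul, inv_one,
      mul_one]
    exact rGens_mem hab hv
  have hswap : ∀ x : SL2, x⁻¹ = -x → phi (di x 1) * phi sw * (phi (di x 1))⁻¹ =
      phi (di x x) * phi (di 1 (-1)) * phi sw := by
    intro x hx
    rw [← map_inv, ← map_mul, ← map_mul, ← map_mul, ← map_mul, di_inv, hx, inv_one, mul_assoc, sw_di,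
      ← mul_assoc, di_mul, di_mul, mul_one, one_mul, mul_neg, mul_one]
  have m1 : phi (di eI eI) ∈ rSub hab := rGens_mem hab (by simp [rGens])
  have m2 : phi (di (eJ hab) (eJ hab)) ∈ rSub hab := rGens_mem hab (by simp [rGens])
  have m3 : phi (di (1 : SL2) (-1)) ∈ rSub hab := rGens_mem hab (by simp [rGens])
  have m4 : phi (sw : Mon SL2 (Fin 2)) ∈ rSub hab := rGens_mem hab (by simp [rGens])
  intro x hx
  refine normalizer_of_gens fun v hv => ?_
  rcases hx with rfl | rfl <;> rcases hv with rfl | rfl | rfl | rfl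
  · show phi (di eI 1) * phi (di eI eI) * (phi (di eI 1))⁻¹ ∈ rSub hab
    rw [← map_inv, ← map_mul, ← map_mul, di_inv, di_mul, di_mul, one_mul, inv_one, mul_one,
      mul_inv_cancel_right]
    exact m1
  · show phi (di eI 1) * phi (di (eJ hab) (eJ hab)) * (phi (di eI 1))⁻¹ ∈ rSub hab
    rw [show phi (di eI 1) * phi (di (eJ hab) (eJ hab)) * (phi (di eI 1))⁻¹ =
      phi (di (eJ hab) (eJ hab)) * phi (di 1 (-1)) by
      rw [← map_inv, ← map_mul, ← map_mul, ← map_mul, di_inv, di_mul, di_mul, di_mul]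
      simp only [one_mul, inv_one, mul_one, mul_neg, hIneg]
      rw [mul_assoc, eJ_eI, mul_neg, neg_neg, ← mul_assoc, eI_sq, neg_one_mul, ← phi_neg (-eJ hab), neg_neg]]
    exact mul_mem m2 m3
  · exact hzero _ _ (by simp [rGens]) eI_sq rfl
  · show phi (di eI 1) * phi sw * (phi (di eI 1))⁻¹ ∈ rSub hab
    rw [hswap _ hIneg]
    exact mul_mem (mul_mem m1 m3) m4
  · show phi (di (eJ hab) 1) * phi (di eI eI) * (phi (di (eJ hab) 1))⁻¹ ∈ rSub hab
    rw [show phi (di (eJ hab) 1) * phi (di eI eI) * (phi (di (eJ hab) 1))⁻¹ =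
      phi (di eI eI) * phi (di 1 (-1)) by
      rw [← map_inv, ← map_mul, ← map_mul, ← map_mul, di_inv, di_mul, di_mul, di_mul]
      simp only [one_mul, inv_one, mul_one, mul_neg, hJneg]
      rw [eJ_eI, neg_mul, neg_neg, mul_assoc, eJ_sq, mul_neg_one, ← phi_neg (-eI), neg_neg]]
    exact mul_mem m1 m3
  · show phi (di (eJ hab) 1) * phi (di (eJ hab) (eJ hab)) * (phi (di (eJ hab) 1))⁻¹ ∈ rSub hab
    rw [← map_inv, ← map_mul, ← map_mul, di_inv, di_mul, di_mul, one_mul, inv_one, mul_one,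
      mul_inv_cancel_right]
    exact m2
  · exact hzero _ _ (by simp [rGens]) (eJ_sq hab) rfl
  · show phi (di (eJ hab) 1) * phi sw * (phi (di (eJ hab) 1))⁻¹ ∈ rSub hab
    rw [hswap _ hJneg]
    exact mul_mem (mul_mem m2 m3) m4

theorem hD_mem_normalizer : hD hab h2 ∈ Subgroup.normalizer (rSub hab : Set (Cfsg.PSp 2 F)) := by
  refine normalizer_of_gens fun v hv => ?_
  have conj : ∀ u u' : SL2, eD hab h2 * u = u' * eD hab h2 →
      hD hab h2 * phi (di u u) * (hD hab h2)⁻¹ = phi (di u' u') := by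
    intro u u' h
    rw [mul_inv_eq_iff_eq_mul, hD, ← map_mul, ← map_mul, di_mul, di_mul, h]
  rcases hv with rfl | rfl | rfl | rfl
  · rw [conj _ _ (eD_eI hab h2)]
    exact rGens_mem hab (by simp [rGens])
  · rw [conj _ _ (eD_eJ hab h2), ← di_mul, map_mul]
    exact mul_mem (rGens_mem hab (by simp [rGens])) (rGens_mem hab (by simp [rGens]))
  · rw [show hD hab h2 * phi (di 1 (-1)) * (hD hab h2)⁻¹ = phi (di 1 (-1)) by
      rw [mul_inv_eq_iff_eq_mul, hD, ← map_mul, ← map_mul, di_mul, di_mul, mul_one, one_mul, mul_neg, mul_one,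
        neg_one_mul]]
    exact rGens_mem hab (by simp [rGens])
  · rw [show hD hab h2 * phi sw * (hD hab h2)⁻¹ = phi sw by
      rw [mul_inv_eq_iff_eq_mul, hD, ← map_mul, ← map_mul, sw_di]]
    exact rGens_mem hab (by simp [rGens])

theorem wT_mem_normalizer : wT hab h2 ∈ Subgroup.normalizer (rSub hab : Set (Cfsg.PSp 2 F)) := by
  refine normalizer_of_gens fun v hv => ?_
  have m : ∀ {x}, x ∈ rGens hab → x ∈ rSub hab := fun hx => rGens_mem hab hx
  rcases hv with rfl | rfl | rfl | rfl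
  · rw [wT_conj hab h2 (g' := di (eJ hab) (eJ hab)) (Or.inr (by
      rw [monMat_const, monMat_const, kr_mul, kr_mul, ← kr_neg_left, Matrix.mul_one, Matrix.one_mul]
      exact congrArg (fun e => kr e _) (mE_mI hab)))]
    exact m (by simp [rGens])
  · rw [wT_conj hab h2 (g' := di eI eI) (Or.inr (by
      rw [monMat_const, monMat_const, kr_mul, kr_mul, ← kr_neg_left, Matrix.mul_one, Matrix.one_mul]
      exact congrArg (fun e => kr e _) (mE_mJ hab)))]
    exact m (by simp [rGens])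
  · rw [wT_conj hab h2 (g' := sw) (Or.inl (by
      rw [monMat_anti, monMat_sw, kr_mul, kr_mul, Matrix.SpecialLinearGroup.coe_one, Matrix.mul_one,
        Matrix.one_mul, mF_mS]))]
    exact m (by simp [rGens])
  · rw [wT_conj hab h2 (g' := di 1 (-1)) (Or.inl (by
      rw [monMat_anti, monMat_sw, kr_mul, kr_mul, Matrix.SpecialLinearGroup.coe_one, Matrix.mul_one,
        Matrix.one_mul, mF_mT]))]
    exact m (by simp [rGens])

theorem hD_mem_twoGen : hD hab h2 ∈ twoGen (rSub hab) := by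
  have hw : ∃ k : ℕ, orderOf (wT hab h2) = 2 ^ k := by
    obtain ⟨k, -, hk⟩ := (Nat.dvd_prime_pow Nat.prime_two).mp
      (orderOf_dvd_of_pow_eq_one (x := wT hab h2) (n := 2 ^ 1) (by rw [pow_one, pow_two, wT_sq]))
    exact ⟨k, hk⟩
  have hwi : (wT hab h2)⁻¹ = wT hab h2 := inv_eq_of_mul_eq_one_right (wT_sq hab h2)
  have h3 := hD_cube hab h2
  have hwh := wT_hD hab h2
  have hmemw : wT hab h2 ∈ twoGen (rSub hab) := Subgroup.subset_closure ⟨wT_mem_normalizer hab h2, hw⟩
  have hconj : hD hab h2 * wT hab h2 * (hD hab h2)⁻¹ ∈ twoGen (rSub hab) := by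
    refine Subgroup.subset_closure ⟨mul_mem (mul_mem (hD_mem_normalizer hab h2) (wT_mem_normalizer hab h2))
      (inv_mem (hD_mem_normalizer hab h2)), ?_⟩
    obtain ⟨k, hk⟩ := hw
    exact ⟨k, by rw [← MulAut.conj_apply, MulEquiv.orderOf_eq, hk]⟩
  have key : hD hab h2 * wT hab h2 * (hD hab h2)⁻¹ * (wT hab h2)⁻¹ = hD hab h2 * hD hab h2 := by
    have e : wT hab h2 * (hD hab h2)⁻¹ = hD hab h2 * wT hab h2 := by
      rw [mul_inv_eq_iff_eq_mul, mul_assoc, hwh]
    rw [mul_assoc (hD hab h2) (wT hab h2), e, mul_assoc, mul_inv_cancel_right]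
  have hsq : hD hab h2 * hD hab h2 ∈ twoGen (rSub hab) := key ▸ mul_mem hconj (inv_mem hmemw)
  have : hD hab h2 = (hD hab h2 * hD hab h2) * (hD hab h2 * hD hab h2) := by
    rw [← mul_assoc, h3, one_mul]
  rw [this]
  exact mul_mem hsq hsq

include h2 in
theorem rSub_centralizer (c : Cfsg.PSp 2 F) (hc : ∀ x ∈ rSub hab, c * x = x * c) : c ∈ rSub hab := by
  obtain ⟨A, rfl⟩ := QuotientGroup.mk_surjective c
  have sgn : ∀ g, phi g ∈ rGens hab → A.1 * monMat g = monMat g * A.1 ∨ A.1 * monMat g = -(monMat g * A.1) := by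
    intro g hg
    have h := (hc _ (rGens_mem hab hg)).symm
    rw [phi_apply, ← QuotientGroup.mk_mul, ← QuotientGroup.mk_mul, mk_eq_iff] at h
    rcases h with h | h
    · exact Or.inl (congrArg Subtype.val h)
    · refine Or.inr ((congrArg Subtype.val h).trans ?_)
      show monMat (di (-1) (-1)) * (monMat g * A.1) = _
      rw [monMat_neg, neg_one_mul]
  have g1 : monMat (di eI eI) = kr (F := F) mI 1 := monMat_const _
  have g2 : monMat (di (eJ hab) (eJ hab)) = kr (mJ a b) 1 := monMat_const _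
  have g3 : monMat (di (1 : SL2) (-1)) = kr 1 mS := monMat_anti _
  have g4 : monMat (sw : Mon SL2 (Fin 2)) = kr 1 mT := monMat_sw
  have s1 := g1 ▸ sgn _ (by simp [rGens])
  have s2 := g2 ▸ sgn _ (by simp [rGens])
  have s3 := g3 ▸ sgn _ (by simp [rGens])
  have s4 := g4 ▸ sgn _ (by simp [rGens])
  have cLR : ∀ e f : Matrix (Fin 2) (Fin 2) F, kr e 1 * kr 1 f = kr 1 f * kr e 1 := fun e f => by
    rw [kr_mul, kr_mul, Matrix.one_mul, Matrix.mul_one, Matrix.mul_one, Matrix.one_mul]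
  have aJI : kr (mJ a b) 1 * kr mI 1 = -(kr mI 1 * kr (mJ a b) 1) := by
    rw [kr_mul, kr_mul, ← kr_neg_left, mJ_mI, mI_mJ]
  have aIJ : kr mI 1 * kr (mJ a b) 1 = -(kr (mJ a b) 1 * kr mI 1) := by rw [aJI, neg_neg]
  have aTS : kr (1 : Matrix (Fin 2) (Fin 2) F) mT * kr 1 mS = -(kr 1 mS * kr 1 mT) := by
    rw [kr_mul, kr_mul, ← kr_neg_right, mT_mS]
  have aST : kr (1 : Matrix (Fin 2) (Fin 2) F) mS * kr 1 mT = -(kr 1 mT * kr 1 mS) := by rw [aTS, neg_neg]
  obtain ⟨E1, hE1, c1⟩ := fix_sign s1 aJI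
  have t2 := keep_sign (G := kr (mJ a b) 1) s2 hE1 rfl
  have t3 := keep_sign (G := kr 1 mS) s3 hE1 (cLR _ _)
  have t4 := keep_sign (G := kr 1 mT) s4 hE1 (cLR _ _)
  obtain ⟨E2, hE2, c2⟩ := fix_sign t2 aIJ
  have d1 := keep_comm (G := kr mI 1) c1 hE2 rfl
  have u3 := keep_sign (G := kr 1 mS) t3 hE2 (cLR _ _)
  have u4 := keep_sign (G := kr 1 mT) t4 hE2 (cLR _ _)
  obtain ⟨E3, hE3, c3⟩ := fix_sign u3 aTS
  have e1 := keep_comm (G := kr mI 1) d1 hE3 (cLR _ _).symm
  have e2 := keep_comm (G := kr (mJ a b) 1) c2 hE3 (cLR _ _).symm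
  have v4 := keep_sign (G := kr 1 mT) u4 hE3 rfl
  obtain ⟨E4, hE4, c4⟩ := fix_sign v4 aST
  have f1 := keep_comm (G := kr mI 1) e1 hE4 (cLR _ _).symm
  have f2 := keep_comm (G := kr (mJ a b) 1) e2 hE4 (cLR _ _).symm
  have f3 := keep_comm (G := kr 1 mS) c3 hE4 rfl
  -- lifts of the correcting factors
  have lift : ∀ (E : Matrix (Fin 2 ⊕ Fin 2) (Fin 2 ⊕ Fin 2) F) (g : Mon SL2 (Fin 2)), phi g ∈ rGens hab →
      (E = 1 ∨ E = monMat g) → ∃ B : Matrix.symplecticGroup (Fin 2) F, B.1 = E ∧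
        (QuotientGroup.mk B : Cfsg.PSp 2 F) ∈ rSub hab := by
    rintro E g hg (rfl | rfl)
    · exact ⟨1, rfl, one_mem _⟩
    · exact ⟨monSp g, rfl, rGens_mem hab hg⟩
  obtain ⟨B1, rfl, r1⟩ := lift E1 _ (show phi (di (eJ hab) (eJ hab)) ∈ rGens hab by simp [rGens]) (g2.symm ▸ hE1)
  obtain ⟨B2, rfl, r2⟩ := lift E2 _ (show phi (di eI eI) ∈ rGens hab by simp [rGens]) (g1.symm ▸ hE2)
  obtain ⟨B3, rfl, r3⟩ := lift E3 _ (show phi sw ∈ rGens hab by simp [rGens]) (g4.symm ▸ hE3)
  obtain ⟨B4, rfl, r4⟩ := lift E4 _ (show phi (di 1 (-1)) ∈ rGens hab by simp [rGens]) (g3.symm ▸ hE4)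
  obtain ⟨e, he⟩ := exists_kr_of_comm h2 f3 c4
  rw [he, kr_mul, kr_mul, Matrix.mul_one] at f1 f2
  have hs := scalar_of_commute hab h2 e (kr_left_inj f1) (kr_left_inj f2)
  have hM : (A * B1 * B2 * B3 * B4).1 = e 0 0 • 1 := by
    rw [← kr_one, ← kr_smul_left, ← hs]
    exact he
  have hcen : A * B1 * B2 * B3 * B4 ∈ Subgroup.center (Matrix.symplecticGroup (Fin 2) F) := by
    rw [Subgroup.mem_center_iff]
    intro g
    apply Subtype.ext
    show g.1 * (A * B1 * B2 * B3 * B4).1 = (A * B1 * B2 * B3 * B4).1 * g.1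
    rw [hM, Matrix.mul_smul, Matrix.smul_mul, Matrix.mul_one, Matrix.one_mul]
  have h1 : (QuotientGroup.mk (A * B1 * B2 * B3 * B4) : Cfsg.PSp 2 F) = 1 := (QuotientGroup.eq_one_iff _).mpr hcen
  simp only [QuotientGroup.mk_mul] at h1
  have := mul_eq_one_iff_eq_inv.mp h1
  have h' := eq_mul_inv_iff_mul_eq.mpr (eq_mul_inv_iff_mul_eq.mpr (eq_mul_inv_iff_mul_eq.mpr this))
  rw [h']
  exact mul_mem (mul_mem (mul_mem (inv_mem r4) (inv_mem r3)) (inv_mem r2)) (inv_mem r1)

variable (Q : Sylow 2 (Matrix.SpecialLinearGroup (Fin 2) F))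
  (hQ : q8 hab ≤ (Q : Subgroup (Matrix.SpecialLinearGroup (Fin 2) F)))

/-- The model Sylow subgroup. -/
def pSub : Subgroup (Cfsg.PSp 2 F) := (monSub (α := Fin 2) (Q : Subgroup SL2) ⊤).map phi

include hQ in
theorem neg_one_mem : (-1 : SL2) ∈ (Q : Subgroup SL2) := hQ (neg_one_mem_q8 hab)

include hQ in
theorem left_mem_of_phi {w : Mon SL2 (Fin 2)} (h : phi w ∈ pSub Q) : ∀ i, w.left i ∈ (Q : Subgroup SL2) := by
  obtain ⟨v, hv, he⟩ := h
  have hv' : w ∈ monSub (α := Fin 2) (Q : Subgroup SL2) ⊤ := by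
    rcases phi_eq_iff.mp he with rfl | rfl
    · exact hv
    · refine mul_mem ⟨fun i => ?_, trivial⟩ hv
      rw [di_left]
      fin_cases i <;> exact neg_one_mem hab Q hQ
  exact hv'.1

theorem di_mem {x y : SL2} (hx : x ∈ (Q : Subgroup SL2)) (hy : y ∈ (Q : Subgroup SL2)) :
    phi (di x y) ∈ pSub Q :=
  ⟨_, ⟨fun i => by rw [di_left]; fin_cases i <;> assumption, trivial⟩, rfl⟩

theorem sw_mem : phi sw ∈ pSub Q := ⟨_, ⟨fun i => one_mem _, trivial⟩, rfl⟩

theorem pSub_cases {p : Cfsg.PSp 2 F} (hp : p ∈ pSub Q) : ∃ x y, x ∈ (Q : Subgroup SL2) ∧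
    y ∈ (Q : Subgroup SL2) ∧ (p = phi (di x y) ∨ p = phi (di x y) * phi sw) := by
  obtain ⟨w, hw, rfl⟩ := hp
  refine ⟨w.left 0, w.left 1, hw.1 0, hw.1 1, ?_⟩
  rcases mon_cases w with h | h
  · exact Or.inl (congrArg phi h)
  · exact Or.inr ((congrArg phi h).trans (map_mul _ _ _))

include h2 hQ in
/-- The centre of the model. -/
theorem center_eq (w : Cfsg.PSp 2 F) (hw : w ∈ pSub Q) (hc : ∀ y ∈ pSub Q, w * y = y * w) :
    w = 1 ∨ w = phi (di 1 (-1)) := by
  obtain ⟨v, -, rfl⟩ := hw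
  have hI : (eI : SL2) ∈ (Q : Subgroup SL2) := hQ (Subgroup.subset_closure (by simp))
  have hJ : eJ hab ∈ (Q : Subgroup SL2) := hQ (Subgroup.subset_closure (by simp))
  have hne := neg_one_ne_one (F := F) h2
  have hlr : ∀ u : SL2, u ∈ (Q : Subgroup SL2) →
      (v * di u 1 = di u 1 * v ∨ v * di u 1 = di (-1) (-1) * (di u 1 * v)) ∧
      (v * di 1 u = di 1 u * v ∨ v * di 1 u = di (-1) (-1) * (di 1 u * v)) := by
    intro u hu
    constructor
    · have h := hc _ (di_mem Q hu (one_mem _))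
      rw [← map_mul, ← map_mul, eq_comm, phi_eq_iff] at h
      exact h
    · have h := hc _ (di_mem Q (one_mem _) hu)
      rw [← map_mul, ← map_mul, eq_comm, phi_eq_iff] at h
      exact h
  rcases mon_cases v with hv | hv
  · have hone : ∀ u : SL2, u ∈ (Q : Subgroup SL2) →
        v.left 0 * u = u * v.left 0 ∧ v.left 1 * u = u * v.left 1 := by
      intro u hu
      obtain ⟨e1, e2⟩ := hlr u hu
      rw [hv, di_mul, di_mul, di_mul, mul_one, one_mul] at e1
      rw [hv, di_mul, di_mul, di_mul, mul_one, one_mul] at e2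
      refine ⟨?_, ?_⟩
      · rcases e1 with e | e
        · exact (di_inj e).1
        · exfalso
          have := (di_inj e).2
          rw [eq_comm, mul_eq_right] at this
          exact hne this
      · rcases e2 with e | e
        · exact (di_inj e).2
        · exfalso
          have := (di_inj e).1
          rw [eq_comm, mul_eq_right] at this
          exact hne this
    rcases eq_one_or_neg hab h2 (hone _ hI).1 (hone _ hJ).1 with h0 | h0 <;>
      rcases eq_one_or_neg hab h2 (hone _ hI).2 (hone _ hJ).2 with h1 | h1 <;> rw [hv, h0, h1]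
    · exact Or.inl (by rw [di_one, map_one])
    · exact Or.inr rfl
    · exact Or.inr (by rw [← phi_neg 1 (-1), neg_neg])
    · exact Or.inl (by rw [phi_neg, di_one, map_one])
  · exfalso
    obtain ⟨e1, -⟩ := hlr _ hI
    rw [hv, mul_assoc, sw_di, ← mul_assoc, di_mul, ← mul_assoc (di eI 1), di_mul, ← mul_assoc, di_mul] at e1
    rcases e1 with e | e
    · have := (di_inj (mul_right_cancel e)).2
      rw [one_mul, mul_eq_left] at this
      have h := eI_sq (F := F)
      rw [this, one_mul] at h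
      exact hne h.symm
    · have := (di_inj (mul_right_cancel e)).2
      rw [one_mul, neg_one_mul, ← mul_neg_one, mul_left_cancel_iff] at this
      have h := eI_sq (F := F)
      rw [this, neg_mul_neg, one_mul] at h
      exact hne h.symm

include hab h2 hQ in
theorem exists_sylow_model : ∃ P : Sylow 2 (Cfsg.PSp 2 F), (P : Subgroup (Cfsg.PSp 2 F)) = pSub Q := by
  classical
  have : Fact (Nat.Prime 2) := ⟨Nat.prime_two⟩
  have hq : Odd (Fintype.card F) := by
    rw [Nat.odd_iff]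
    refine FiniteField.odd_card_of_char_ne_two fun hch => ?_
    have : CharP F 2 := ringChar.of_eq hch
    exact h2 CharTwo.two_eq_zero
  have hq1 : 1 < Fintype.card F := Fintype.one_lt_card
  set W := monSub (α := Fin 2) (Q : Subgroup SL2) ⊤ with hW
  have hcard : Nat.card (W.map (monSp (F := F) (α := Fin 2))) =
      2 ^ (Nat.card (Matrix.symplecticGroup (Fin 2) F)).factorization 2 := by
    rw [Nat.card_congr (Subgroup.equivMapOfInjective W monSp monSp_injective).toEquiv.symm, hW, card_monSub,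
      Q.card_eq_multiplicity, Subgroup.card_top, Nat.card_perm, Nat.card_fin, Fintype.card_fin, ← pow_mul,
      show (Nat.factorial 2) = 2 ^ 1 from rfl, ← pow_add,
      CfsgLib.SpecLin.SLTwo.card_sl_two, Sp.card_symplecticGroup rfl]
    congr 1
    obtain ⟨hp, hp0⟩ := padic_prod hq hq1 2
    have h2q : padicValNat 2 (Fintype.card F) = 0 :=
      padicValNat.eq_zero_of_not_dvd (by obtain ⟨k, hk⟩ := hq; omega)
    have hsq : Fintype.card F ^ 2 - 1 ≠ 0 := by
      have := Nat.pow_le_pow_left (show 2 ≤ Fintype.card F by omega) 2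
      omega
    rw [Nat.factorization_def _ Nat.prime_two,
      Nat.factorization_def _ Nat.prime_two, padicValNat.mul (by omega) hsq, h2q, zero_add,
      padicValNat.mul (pow_ne_zero _ (by omega)) hp0, padicValNat.pow, h2q, mul_zero, zero_add, hp,
      show (Nat.factorial 2) = 2 from rfl, padicValNat.self one_lt_two, mul_comm]
  let P' : Sylow 2 (Matrix.symplecticGroup (Fin 2) F) := Sylow.ofCard (W.map monSp) hcard
  refine ⟨P'.mapSurjective (QuotientGroup.mk'_surjective _), ?_⟩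
  show (W.map monSp).map (QuotientGroup.mk' _) = _
  rw [Subgroup.map_map]
  rfl

include h2 hQ in
theorem fusion_closed (K : Subgroup (Cfsg.PSp 2 F)) (hz : phi (di 1 (-1)) ∈ K)
    (hcl : ∀ g, ∀ x ∈ K, g * x * g⁻¹ ∈ pSub Q → g * x * g⁻¹ ∈ K) : pSub Q ≤ K := by
  have hcl' : ∀ x ∈ K, ∀ y, IsConj x y → y ∈ pSub Q → y ∈ K := by
    intro x hx y hxy hy
    obtain ⟨g, rfl⟩ := isConj_iff.mp hxy
    exact hcl g x hx hy
  have hI : (eI : SL2) ∈ (Q : Subgroup SL2) := hQ (Subgroup.subset_closure (by simp))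
  have hJ : eJ hab ∈ (Q : Subgroup SL2) := hQ (Subgroup.subset_closure (by simp))
  have hsw : phi sw ∈ K := by
    refine hcl' _ hz _ ?_ (sw_mem Q)
    refine SpInvClasses.isConj_mk _ _ (krSp !![1, 0; 0, (2 : F)⁻¹] mF 2 mF_mul_transpose ?_) ?_
    · rw [det_fin_two_of]; field_simp; ring
    · refine Subtype.ext ?_
      show kr !![1, 0; 0, (2 : F)⁻¹] mF * monMat (di 1 (-1)) = monMat sw * kr !![1, 0; 0, (2 : F)⁻¹] mF
      rw [monMat_anti, monMat_sw, kr_mul, kr_mul, Matrix.SpecialLinearGroup.coe_one, Matrix.mul_one,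
        Matrix.one_mul, mF_mS]
  have hanti : ∀ u ∈ (Q : Subgroup SL2), phi (di u u⁻¹) ∈ K := by
    intro u hu
    have h1 : phi (di u 1) * phi sw * (phi (di u 1))⁻¹ = phi (di u u⁻¹) * phi sw := by
      rw [← map_inv, ← map_mul, ← map_mul, ← map_mul, di_inv, inv_one, mul_assoc, sw_di, ← mul_assoc, di_mul,
        mul_one, one_mul]
    have h3 := hcl' _ hsw _ (isConj_iff.mpr ⟨_, h1⟩) (mul_mem (di_mem Q hu (inv_mem hu)) (sw_mem Q))
    exact (K.mul_mem_cancel_right hsw).mp h3
  have hB : ∀ x y, x ∈ (Q : Subgroup SL2) → y ∈ (Q : Subgroup SL2) → x * x = -1 → y * y = -1 →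
      phi (di x y) ∈ K := by
    intro x y hx hy hx2 hy2
    refine hcl' _ (hanti eI hI) _ ?_ (di_mem Q hx hy)
    have hinv : (eI : SL2)⁻¹ * eI⁻¹ = -1 := by
      rw [← _root_.mul_inv_rev, eI_sq]
      exact inv_eq_of_mul_eq_one_right (by rw [neg_mul_neg, one_mul])
    refine SpInvClasses.isConj_of_anti h2 _ _ ?_ ?_
    · show monMat (di eI eI⁻¹) * monMat (di eI eI⁻¹) = -1
      rw [← monMat_mul, di_mul, eI_sq, hinv, monMat_neg]
    · show monMat (di x y) * monMat (di x y) = -1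
      rw [← monMat_mul, di_mul, hx2, hy2, monMat_neg]
  let L : Subgroup SL2 := K.comap
    { toFun := fun u => phi (di u 1)
      map_one' := by rw [di_one, map_one]
      map_mul' := fun u v => by rw [← map_mul, di_mul, one_mul] }
  have hpair : ∀ x y, x ∈ (Q : Subgroup SL2) → y ∈ (Q : Subgroup SL2) → x * x = -1 → y * y = -1 →
      x * y ∈ L := by
    intro x y hx hy hx2 hy2
    show phi (di (x * y) 1) ∈ K
    have := mul_mem (mul_mem (hB x _ hx hJ hx2 (eJ_sq hab)) (hB y _ hy hJ hy2 (eJ_sq hab))) hz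
    rwa [← map_mul, ← map_mul, di_mul, di_mul, eJ_sq, mul_one, neg_mul_neg, one_mul] at this
  have hk : (eI : SL2) * eJ hab ∈ L := hpair _ _ hI hJ eI_sq (eJ_sq hab)
  have hL : (Q : Subgroup SL2) ≤ L := by
    refine (le_closure_sqrt hab Q hQ h2).trans ((Subgroup.closure_le _).mpr ?_)
    rintro x ⟨hx, hx2⟩
    have := hpair x _ hx (mul_mem hI hJ) hx2 (eK_sq hab)
    exact (L.mul_mem_cancel_right hk).mp this
  intro p hp
  obtain ⟨x, y, hx, hy, hp'⟩ := pSub_cases Q hp
  have hxy : phi (di x y) ∈ K := by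
    have h1 : phi (di x 1) ∈ K := hL hx
    have h3 : phi (di y 1) ∈ K := hL hy
    have h4 : phi (di 1 y) ∈ K := phi_sw_di y 1 ▸ mul_mem (mul_mem hsw h3) (inv_mem hsw)
    have := mul_mem h1 h4
    rwa [← map_mul, di_mul, mul_one, one_mul] at this
  rcases hp' with rfl | rfl
  · exact hxy
  · exact mul_mem hxy hsw

include h2 hQ in
theorem odd_normalizer (h : Cfsg.PSp 2 F) (hn : ∀ y ∈ pSub Q, h * y * h⁻¹ ∈ pSub Q)
    (ho : Odd (orderOf h)) : h = 1 ∨ (rSub hab ≤ pSub Q ∧
      (∀ y ∈ pSub Q, ∀ x ∈ rSub hab, y * x * y⁻¹ ∈ rSub hab) ∧ h ∈ twoGen (rSub hab)) := by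
  classical
  have hfin : Finite (Matrix.symplecticGroup (Fin 2) F) := inferInstance
  set n := orderOf h with hn'
  -- a lift of odd order
  obtain ⟨A, hA, hAn⟩ : ∃ A : Matrix.symplecticGroup (Fin 2) F, QuotientGroup.mk A = h ∧ A ^ n = 1 := by
    obtain ⟨A, hA⟩ := QuotientGroup.mk_surjective h
    have h1 : (QuotientGroup.mk (A ^ n) : Cfsg.PSp 2 F) = QuotientGroup.mk 1 := by
      rw [QuotientGroup.mk_pow, hA, QuotientGroup.mk_one]
      exact pow_orderOf_eq_one h
    rcases mk_eq_iff.mp h1.symm with e | e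
    · exact ⟨A, hA, e⟩
    · refine ⟨monSp (di (-1) (-1)) * A, ?_, ?_⟩
      · rw [QuotientGroup.mk_mul, ← phi_apply, phi_neg, di_one, map_one, one_mul, hA]
      · have hc : Commute (monSp (di (-1 : SL2) (-1))) A :=
          (Subgroup.mem_center_iff.mp (Sp.mem_center_iff.mpr (Or.inr monMat_neg)) A).symm
        have hsq : monSp (di (-1 : SL2) (-1)) * monSp (di (-1) (-1)) = 1 := by
          rw [← map_mul, di_mul, neg_mul_neg, one_mul, di_one, map_one]
        rw [hc.mul_pow, e, mul_one]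
        obtain ⟨k, hk⟩ := ho
        rw [hk, pow_succ, pow_mul, pow_two, hsq, one_pow, one_mul, hsq]
  -- `h` fixes the central involution
  have hz : phi (di 1 (-1)) ∈ pSub Q := di_mem Q (one_mem _) (neg_one_mem hab Q hQ)
  have hzc : ∀ y ∈ pSub Q, phi (di 1 (-1)) * y = y * phi (di 1 (-1)) := by
    intro y hy
    obtain ⟨u, v, -, -, rfl | rfl⟩ := pSub_cases Q hy
    · rw [← map_mul, ← map_mul, di_mul, di_mul, one_mul, mul_one, neg_one_mul, mul_neg, mul_one]
    · rw [← map_mul, ← map_mul, ← map_mul, ← mul_assoc, di_mul, mul_assoc, sw_di, ← mul_assoc, di_mul, eq_comm,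
        phi_eq_iff, ← mul_assoc, di_mul]
      refine Or.inr ?_
      simp [mul_neg, neg_mul]
  have hnN : h ∈ Subgroup.normalizer (pSub Q : Set (Cfsg.PSp 2 F)) := Subgroup.mem_normalizer_fintype hn
  have hhz : h * phi (di 1 (-1)) * h⁻¹ = phi (di 1 (-1)) := by
    rcases center_eq hab h2 Q hQ _ (hn _ hz) (fun y hy => by
      have hy' : h⁻¹ * y * h ∈ pSub Q := by
        simpa using (Subgroup.mem_normalizer_iff.mp (inv_mem hnN) y).mp hy
      calc h * phi (di 1 (-1)) * h⁻¹ * y = h * (phi (di 1 (-1)) * (h⁻¹ * y * h)) * h⁻¹ := by group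
        _ = h * ((h⁻¹ * y * h) * phi (di 1 (-1))) * h⁻¹ := by rw [hzc _ hy']
        _ = y * (h * phi (di 1 (-1)) * h⁻¹) := by group) with e | e
    · exfalso
      have e1 : phi (di (1 : SL2) (-1)) = 1 := by simpa [mul_assoc] using congrArg (fun v => h⁻¹ * v * h) e
      rcases phi_eq_one e1 with e' | e'
      · rw [← di_one] at e'
        exact neg_one_ne_one h2 (di_inj e').2
      · exact neg_one_ne_one h2 (di_inj e').1.symm
    · exact e
  -- so the lift is monomial
  have hAS : A.1 * kr 1 mS = kr 1 mS * A.1 := by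
    have e := mul_inv_eq_iff_eq_mul.mp hhz
    rw [← hA, phi_apply, ← QuotientGroup.mk_mul, ← QuotientGroup.mk_mul, mk_eq_iff] at e
    have g3 : monMat (di (1 : SL2) (-1)) = kr 1 mS := monMat_anti _
    rcases e with e | e
    · have := congrArg Subtype.val e
      change monMat _ * A.1 = A.1 * monMat _ at this
      rw [g3] at this
      exact this.symm
    · exfalso
      have h1 := congrArg Subtype.val e
      change monMat _ * A.1 = monMat _ * (A.1 * monMat _) at h1
      rw [g3, monMat_neg, neg_one_mul] at h1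
      have hpow : ∀ k : ℕ, kr 1 mS * A.1 ^ k = (-1) ^ k * (A.1 ^ k * kr 1 mS) := by
        intro k
        induction k with
        | zero => simp
        | succ k ih =>
          rw [pow_succ, ← mul_assoc (kr 1 mS), ih, mul_assoc, mul_assoc (A.1 ^ k), h1, pow_succ]
          simp [mul_assoc]
      have h3 := hpow n
      have hAn' : A.1 ^ n = 1 := by
        rw [← SubmonoidClass.coe_pow, hAn]; rfl
      rw [hAn', mul_one, one_mul, ho.neg_one_pow, neg_one_mul] at h3
      have h4 := congrFun (congrFun h3 (Sum.inl 0)) (Sum.inl 0)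
      simp [kr, mS] at h4
      exact h2 (by linear_combination h4)
  obtain ⟨x, y, hxy⟩ := exists_di_of_comm h2 A hAS
  have hh : h = phi (di x y) := by rw [← hA, ← hxy]; rfl
  have hpn : x ^ n = 1 ∧ y ^ n = 1 := by
    have : di x y ^ n = 1 := monSp_injective (by rw [map_pow, hxy, hAn, map_one])
    have hp : ∀ k : ℕ, di x y ^ k = di (x ^ k) (y ^ k) := by
      intro k
      induction k with
      | zero => simp [di_one]
      | succ k ih => rw [pow_succ, ih, di_mul, ← pow_succ, ← pow_succ]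
    rw [hp, ← di_one] at this
    exact di_inj this
  have hxN : ∀ u ∈ (Q : Subgroup SL2), x * u * x⁻¹ ∈ (Q : Subgroup SL2) := by
    intro u hu
    have := left_mem_of_phi hab Q hQ (w := di (x * u * x⁻¹) (y * 1 * y⁻¹)) (by
      rw [← di_mul, ← di_mul, ← di_inv, map_mul, map_mul, map_inv, ← hh]
      exact hn _ (di_mem Q hu (one_mem _))) 0
    exact this
  have hxy' : x * y⁻¹ ∈ (Q : Subgroup SL2) := by
    have := left_mem_of_phi hab Q hQ (w := di (x * y⁻¹) (y * x⁻¹) * sw) (by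
      have e : phi (di (x * y⁻¹) (y * x⁻¹) * sw) = h * phi sw * h⁻¹ := by
        rw [hh, ← map_inv, ← map_mul, ← map_mul, di_inv, mul_assoc (di x y), sw_di, ← mul_assoc, di_mul]
      rw [e]
      exact hn _ (sw_mem Q)) 0
    rw [mul_left_apply] at this
    simpa [di, sw] using this
  have hxN' : x ∈ Subgroup.normalizer ((Q : Subgroup SL2) : Set SL2) := Subgroup.mem_normalizer_fintype hxN
  by_cases h8 : Nat.card (Q : Subgroup SL2) = 8
  · right
    have hQ' := eq_q8_of_card hab Q hQ h2 h8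
    have hI : (eI : SL2) ∈ (Q : Subgroup SL2) := hQ (Subgroup.subset_closure (by simp))
    have hJ : eJ hab ∈ (Q : Subgroup SL2) := hQ (Subgroup.subset_closure (by simp))
    have hsingle : ∀ u ∈ (Q : Subgroup SL2), ∀ v ∈ (Q : Subgroup SL2),
        phi (di u v) ∈ Subgroup.normalizer (rSub hab : Set (Cfsg.PSp 2 F)) := by
      intro u hu v hv
      rw [hQ'] at hu hv
      have hswN : phi sw ∈ Subgroup.normalizer (rSub hab : Set (Cfsg.PSp 2 F)) :=
        Subgroup.le_normalizer (rGens_mem hab (by simp [rGens]))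
      have h4 : phi (di 1 v) ∈ Subgroup.normalizer (rSub hab : Set (Cfsg.PSp 2 F)) :=
        phi_sw_di v 1 ▸ mul_mem (mul_mem hswN (phi_single_mem_normalizer hab hv)) (inv_mem hswN)
      have := mul_mem (phi_single_mem_normalizer hab hu) h4
      rwa [← map_mul, di_mul, mul_one, one_mul] at this
    have hPN : pSub Q ≤ Subgroup.normalizer (rSub hab : Set (Cfsg.PSp 2 F)) := by
      intro p hp
      obtain ⟨u, v, hu, hv, rfl | rfl⟩ := pSub_cases Q hp
      · exact hsingle u hu v hv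
      · exact mul_mem (hsingle u hu v hv) (Subgroup.le_normalizer (rGens_mem hab (by simp [rGens])))
    have hPp : IsPGroup 2 (pSub Q) := by
      obtain ⟨P, hP⟩ := exists_sylow_model hab h2 Q hQ
      exact hP ▸ P.isPGroup'
    refine ⟨?_, fun p hp v hv => (Subgroup.mem_normalizer_iff.mp (hPN hp) v).mp hv, ?_⟩
    · rw [rSub, Subgroup.closure_le]
      rintro v (rfl | rfl | rfl | rfl)
      · exact di_mem Q hI hI
      · exact di_mem Q hJ hJ
      · exact hz
      · exact sw_mem Q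
    · obtain ⟨k, hk⟩ := exists_pow_of_normalizes hab Q hQ h2 h8 hxN'
      set q₀ := x * (eD hab h2 ^ k)⁻¹ with hq₀
      have hy : y = (y * x⁻¹) * q₀ * eD hab h2 ^ k := by rw [hq₀]; group
      have hx : x = q₀ * eD hab h2 ^ k := by rw [hq₀]; group
      have hyq : y * x⁻¹ ∈ (Q : Subgroup SL2) := by simpa using inv_mem hxy'
      have hpowD : hD hab h2 ^ k = phi (di (eD hab h2 ^ k) (eD hab h2 ^ k)) := by
        clear hy hx hq₀ hk
        induction k with
        | zero => simp [di_one]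
        | succ k ih => rw [pow_succ, ih, hD, ← map_mul, di_mul, ← pow_succ]
      have e : h = phi (di q₀ ((y * x⁻¹) * q₀)) * hD hab h2 ^ k := by
        rw [hpowD, ← map_mul, di_mul, ← hx, ← hy, hh]
      rw [e]
      refine mul_mem ?_ (pow_mem (hD_mem_twoGen hab h2) k)
      have hp : phi (di q₀ ((y * x⁻¹) * q₀)) ∈ pSub Q := di_mem Q hk (mul_mem hyq hk)
      refine Subgroup.subset_closure ⟨hPN hp, ?_⟩
      obtain ⟨j, hj⟩ := IsPGroup.iff_orderOf.mp hPp ⟨_, hp⟩
      exact ⟨j, by rw [← hj, Subgroup.orderOf_mk]⟩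
  · left
    have hox : Odd (orderOf x) := ho.of_dvd_nat (orderOf_dvd_of_pow_eq_one hpn.1)
    have hoy : Odd (orderOf y) := ho.of_dvd_nat (orderOf_dvd_of_pow_eq_one hpn.2)
    have hx1 : x = 1 := eq_one_of_normalizes hab Q hQ h2 h8 hxN' hox
    have hyQ : y ∈ (Q : Subgroup SL2) := by
      rw [hx1, one_mul] at hxy'
      exact inv_mem_iff.mp hxy'
    have hy1 : y = 1 := eq_one_of_normalizes hab Q hQ h2 h8 (Subgroup.le_normalizer hyQ) hoy
    rw [hh, hx1, hy1, di_one, map_one]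

end Model

/-- The 2-fusion system of `PSp(4,q)`, `q` odd, is simple. -/
theorem isSimple (hodd : Odd (Fintype.card F)) (S : Sylow 2 (Cfsg.PSp 2 F)) :
    (Cfsg.groupFusionSystem (S : Subgroup (Cfsg.PSp 2 F))).IsSimple 2 := by
  classical
  have h2 : (2 : F) ≠ 0 := CfsgLib.SympSylow.two_ne_zero_of_odd hodd
  obtain ⟨p, hp⟩ := CharP.exists F
  have : NeZero p := ⟨(CharP.char_is_prime F p).ne_zero⟩
  obtain ⟨a, b, hab⟩ : ∃ a b : F, a * a + b * b = -1 := by
    obtain ⟨a, b, h⟩ := SpInvClasses.exists_two_sq h2 (-1 : F)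
    exact ⟨a, b, by linear_combination h⟩
  obtain ⟨Q, hQ⟩ := Q8.exists_sylow hab
  obtain ⟨P, hP⟩ := exists_sylow_model hab h2 Q hQ
  refine Fusion48.isSimple_of_frame S P ?_ (phi (di 1 (-1))) ?_ ?_ ?_
  · rw [hP]
    intro hbot
    have h := sw_mem (F := F) Q
    rw [hbot, Subgroup.mem_bot] at h
    rcases phi_eq_one h with e | e <;>
      · have e' := congrArg SemidirectProduct.right e
        simp [sw, di, Equiv.swap_eq_one_iff] at e'
  · rw [hP]; exact center_eq hab h2 Q hQ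
  · rw [hP]; exact fusion_closed hab h2 Q hQ
  · rw [hP]
    intro h hn ho
    rcases odd_normalizer hab h2 Q hQ h hn ho with h1 | ⟨h1, h1', h1''⟩
    · exact Or.inl h1
    · exact Or.inr ⟨rSub hab, h1, h1', fun c hc => rSub_centralizer hab h2 c hc, h1''⟩

end CfsgLib.Fusion48.SpFour
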